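import Cfsg.Agent.Lib.SpThreeUnip.SLTwo

/-!
Two elements generating a full lower unitriangular group over the field of nine elements.
-/

set_option autoImplicit false

namespace Cfsg.Agent.SpThreeUnip

open Matrix

universe u

variable {F : Type u} [Field F] [Fintype F]

local notation "G2" => Matrix.SpecialLinearGroup (Fin 2) F

/-- Multiplication in `ZMod 3 [i]`. -/
def mE (z w : SL2.E9) : SL2.E9 := (z.1 * w.1 - z.2 * w.2, z.1 * w.2 + z.2 * w.1)

/-- Multiplication of matrices over `ZMod 3 [i]`. -/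
def mQ (x y : SL2.Q9) : SL2.Q9 :=
  (mE x.1 y.1 + mE x.2.1 y.2.2.1, mE x.1 y.2.1 + mE x.2.1 y.2.2.2,
    mE x.2.2.1 y.1 + mE x.2.2.2 y.2.2.1, mE x.2.2.1 y.2.1 + mE x.2.2.2 y.2.2.2)

/-- The first element, parameter `i`. -/
def qA : SL2.Q9 := ((0, 0), (0, 1), (0, 1), (1, 0))

/-- The second element, parameter `1 - i`. -/
def qB : SL2.Q9 := ((1, 1), (1, 2), (1, 2), (1, 0))

theorem word_one : mQ (mQ (mQ qA qB) qB) qB = ((1, 0), (0, 0), (1, 1), (1, 0)) := by decide +kernel

theorem word_two : mQ (mQ (mQ (mQ (mQ (mQ qA qB) qA) qB) qB) qA) qB = ((1, 0), (0, 0), (0, 2), (1, 0)) := by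
  decide +kernel

theorem lw_of_bigX (h9 : Fintype.card F = 9) :
    ∃ s t : F, ∀ {K : Subgroup G2}, bigX s ∈ K → bigX t ∈ K → ∀ c : F, lw c ∈ K := by
  classical
  obtain ⟨p, hc⟩ := CharP.exists F
  have hp : p.Prime := CharP.char_is_prime F p
  have hp3 : p = 3 := by
    obtain ⟨n, -, hn⟩ := FiniteField.card F p
    rw [h9] at hn
    exact (Nat.prime_dvd_prime_iff_eq hp Nat.prime_three).1
      (hp.dvd_of_dvd_pow (n := 2) (show p ∣ 3 ^ 2 by norm_num; exact hn ▸ dvd_pow_self p n.ne_zero))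
  subst hp3
  obtain ⟨i, hi⟩ : ∃ i : F, i ^ 2 = -1 := by
    obtain ⟨i, hi⟩ := (FiniteField.isSquare_neg_one_iff (F := F)).2 (by rw [h9]; decide)
    exact ⟨i, by rw [pow_two, ← hi]⟩
  set c : ZMod 3 →+* F := ZMod.castHom (dvd_refl 3) F with hcdef
  set e : SL2.E9 → F := fun z => c z.1 + i * c z.2 with he
  have eA : ∀ z w, e (z + w) = e z + e w := fun z w => by
    simp only [e, Prod.fst_add, Prod.snd_add, map_add]; ring
  have eM : ∀ z w, e (mE z w) = e z * e w := fun z w => by
    simp only [e, mE, map_sub, map_mul, map_add]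
    linear_combination -(c z.2 * c w.2) * hi
  set ev : SL2.Q9 → Matrix (Fin 2) (Fin 2) F := fun m => !![e m.1, e m.2.1; e m.2.2.1, e m.2.2.2] with hev
  have evM : ∀ x y, ev (mQ x y) = ev x * ev y := fun x y => by
    apply SL2.mext <;> simp [ev, mQ, eA, eM, Matrix.mul_apply, Fin.sum_univ_two]
  have h3 : (3 : F) = 0 := by exact_mod_cast CharP.cast_eq_zero F 3
  have c2 : c 2 = (2 : F) := map_ofNat c 2
  have hA : ((bigX i : G2) : Matrix (Fin 2) (Fin 2) F) = ev qA := by
    rw [coe_bigX]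
    apply SL2.mext <;> simp [ev, e, qA]
    linear_combination hi
  have hB : ((bigX (1 - i) : G2) : Matrix (Fin 2) (Fin 2) F) = ev qB := by
    rw [coe_bigX]
    apply SL2.mext <;> simp [ev, e, qB, c2]
    · linear_combination hi - i * h3
    · linear_combination -i * h3
    · linear_combination -i * h3
  refine ⟨i, 1 - i, fun {K} hs ht => ?_⟩
  have hu : lw (1 + i) ∈ K := by
    have : (lw (1 + i) : G2) = bigX i * bigX (1 - i) * bigX (1 - i) * bigX (1 - i) := by
      apply Subtype.ext
      simp only [Matrix.SpecialLinearGroup.coe_mul]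
      rw [hA, hB, ← evM, ← evM, ← evM, word_one]
      apply SL2.mext <;> simp [ev, e, lw]
    rw [this]
    exact mul_mem (mul_mem (mul_mem hs ht) ht) ht
  have hv : lw (-i) ∈ K := by
    have : (lw (-i) : G2) =
        bigX i * bigX (1 - i) * bigX i * bigX (1 - i) * bigX (1 - i) * bigX i * bigX (1 - i) := by
      apply Subtype.ext
      simp only [Matrix.SpecialLinearGroup.coe_mul]
      rw [hA, hB, ← evM, ← evM, ← evM, ← evM, ← evM, ← evM, word_two]
      apply SL2.mext <;> simp [ev, e, lw, c2]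
      linear_combination -i * h3
    rw [this]
    exact mul_mem (mul_mem (mul_mem (mul_mem (mul_mem (mul_mem hs ht) hs) ht) ht) hs) ht
  let S : AddSubgroup F :=
    { carrier := {x | lw x ∈ K}
      zero_mem' := by show lw 0 ∈ K; rw [lw_zero]; exact K.one_mem
      add_mem' := fun {a b} ha hb => by show lw _ ∈ K; rw [← lw_mul]; exact mul_mem ha hb
      neg_mem' := fun {a} ha => by
        show lw _ ∈ K
        rw [show lw (-a) = (lw a)⁻¹ by rw [eq_inv_iff_mul_eq_one, lw_mul, neg_add_cancel, lw_zero]]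
        exact K.inv_mem ha }
  have hS1 : (1 : F) ∈ S := by
    have := S.add_mem (show (1 + i) ∈ S from hu) (show -i ∈ S from hv)
    simpa using this
  have hSi : i ∈ S := by simpa using S.neg_mem (show -i ∈ S from hv)
  have he_surj : Function.Surjective e := by
    have hcard : Fintype.card SL2.E9 = Fintype.card F := by rw [h9]; rfl
    refine ((Fintype.bijective_iff_injective_and_card e).2 ⟨fun z w h => ?_, hcard⟩).2
    simp only [e] at h
    by_contra hne
    have h2 : z.2 ≠ w.2 := fun e2 => hne (Prod.ext (c.injective (by rw [e2] at h; simpa using h)) e2)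
    have hd : c (z.2 - w.2) ≠ 0 := fun h0 => h2 (sub_eq_zero.1 (c.injective (h0.trans (map_zero c).symm)))
    obtain ⟨k, hk⟩ : ∃ k : ZMod 3, i = c k := by
      refine ⟨(w.1 - z.1) / (z.2 - w.2), ?_⟩
      rw [map_div₀, eq_div_iff hd, map_sub, map_sub]
      linear_combination h
    rw [hk, ← map_pow, ← map_one c, ← map_neg] at hi
    exact (by decide : ∀ k : ZMod 3, k ^ 2 ≠ -1) k (c.injective hi)
  intro x
  obtain ⟨z, rfl⟩ := he_surj x
  show e z ∈ S
  have hz : e z = z.1.val • (1 : F) + z.2.val • i := by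
    simp only [e, nsmul_eq_mul, mul_one]
    conv_lhs => rw [← ZMod.natCast_zmod_val z.1, ← ZMod.natCast_zmod_val z.2]
    rw [map_natCast, map_natCast]
    ring
  rw [hz]
  exact S.add_mem (S.nsmul_mem hS1 _) (S.nsmul_mem hSi _)

end Cfsg.Agent.SpThreeUnip
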