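import Cfsg.Agent.Lib.ClassTwoGen.SpSpan

/-!
Subgroups of `Sp` containing the transvection groups along a connected spanning chain.
-/

set_option autoImplicit false

namespace Cfsg.Agent.SpThreeUnip

open Matrix Cfsg.Agent.FormsLib Cfsg.Agent.AutPSp Cfsg.Agent.ClassTwoGen.SpGen

universe u

variable {m : ℕ} {F : Type u} [Field F]

local notation "V" => Fin m ⊕ Fin m → F
local notation "B" => spB m F
local notation "Sp" => Matrix.symplecticGroup (Fin m) F

variable {M : Subgroup (Matrix.symplecticGroup (Fin m) F)}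

theorem eq_top_of_inW [Finite F] (h : ∀ v : V, v ≠ 0 → InW M v) : M = ⊤ := by
  rw [eq_top_iff, ← S2730.closure_tr (m := m) (F := F), Subgroup.closure_le]
  rintro _ ⟨w, c, rfl⟩
  by_cases hw : w = 0
  · subst hw; exact inW_zero c
  · exact h w hw c

/-- The span of two members which are not orthogonal. -/
theorem inW_span_pair {x y : V} (hx : InW M x) (hy : InW M y) (h : B x y ≠ 0) (s t : F) :
    InW M (s • x + t • y) := by
  by_cases hs : s = 0
  · simpa [hs] using hy.smul t
  · have := hy.add_smul (hx.smul s) (by simpa [hs] using h) t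
    exact this

section big

variable [Fintype F]

theorem exists_avoid (hq : 3 ≤ Fintype.card F) {U : Submodule F V} (Z₁ Z₂ Z₃ : Submodule F V)
    (h₁ : ¬ U ≤ Z₁) (h₂ : ¬ U ≤ Z₂) (h₃ : ¬ U ≤ Z₃) :
    ∃ y ∈ U, y ∉ Z₁ ∧ y ∉ Z₂ ∧ y ∉ Z₃ := by
  classical
  by_contra hne
  push Not at hne
  let p : Fin 3 → Submodule F U := fun i => (![Z₁, Z₂, Z₃] i).comap U.subtype
  have hp : ∀ i, p i ≠ ⊤ := fun i h => by
    have hh : U ≤ ![Z₁, Z₂, Z₃] i := fun x hx =>
      (h ▸ Submodule.mem_top : (⟨x, hx⟩ : U) ∈ p i)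
    fin_cases i
    exacts [h₁ hh, h₂ hh, h₃ hh]
  have hlt : ((Finset.univ : Finset (Fin 3)).card : ℕ∞) < ENat.card F + 1 := by
    rw [ENat.card_eq_coe_fintype_card, Finset.card_univ, Fintype.card_fin]
    exact_mod_cast (by omega : 3 < Fintype.card F + 1)
  -- two of the three cover a hyperplane's complement
  obtain ⟨a, ha⟩ : ∃ a : U, (a : V) ∉ Z₁ ∧ (a : V) ∉ Z₂ := by
    have := Submodule.iUnion_ssubset_of_forall_ne_top_of_card_lt ({0, 1} : Finset (Fin 3)) p hp
      (by rw [ENat.card_eq_coe_fintype_card]; exact_mod_cast (lt_of_le_of_lt Finset.card_le_two hq))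
    obtain ⟨a, -, ha⟩ := Set.exists_of_ssubset this
    simp only [Set.mem_iUnion, Finset.mem_insert, Finset.mem_singleton, not_exists] at ha
    exact ⟨a, fun h => ha 0 (Or.inl rfl) h, fun h => ha 1 (Or.inr rfl) h⟩
  obtain ⟨b, hb, hb3⟩ := SetLike.not_le_iff_exists.1 h₃
  have ha3 : (a : V) ∈ Z₃ := hne a a.2 ha.1 ha.2
  have hline : ∀ t : F, t ≠ 0 → b + t • (a : V) ∉ Z₃ := fun t _ h =>
    hb3 (by simpa using Z₃.sub_mem h (Z₃.smul_mem t ha3))
  have honce : ∀ Z : Submodule F V, (a : V) ∉ Z → ∀ s t : F, b + s • (a : V) ∈ Z → b + t • (a : V) ∈ Z → s = t := by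
    intro Z hZ s t hs ht
    by_contra hst
    refine hZ ((Z.smul_mem_iff (sub_ne_zero.2 hst)).1 ?_)
    convert Z.sub_mem hs ht using 1
    module
  have hcov : ∀ t : F, b + t • (a : V) ∈ Z₁ ∨ b + t • (a : V) ∈ Z₂ := fun t => by
    by_contra h
    push Not at h
    have hm : b + t • (a : V) ∈ Z₃ := hne _ (U.add_mem hb (U.smul_mem t a.2)) h.1 h.2
    exact hb3 (by simpa using Z₃.sub_mem hm (Z₃.smul_mem t ha3))
  obtain ⟨t₁, t₂, t₃, h12, h13, h23⟩ := Fintype.two_lt_card_iff.1 (show 2 < Fintype.card F by omega)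
  rcases hcov t₁ with a1 | a1 <;> rcases hcov t₂ with a2 | a2 <;> rcases hcov t₃ with a3 | a3 <;>
    first
      | exact h12 (honce _ ha.1 _ _ a1 a2) | exact h12 (honce _ ha.2 _ _ a1 a2)
      | exact h13 (honce _ ha.1 _ _ a1 a3) | exact h13 (honce _ ha.2 _ _ a1 a3)
      | exact h23 (honce _ ha.1 _ _ a2 a3) | exact h23 (honce _ ha.2 _ _ a2 a3)

/-- A connected spanning chain, at least three scalars. -/
theorem eq_top_of_chain_big (hq : 3 ≤ Fintype.card F) (w : ℕ → V) (hw : ∀ k, InW M (w k))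
    (hB : ∀ k, B (w k) (w (k + 1)) ≠ 0) (hspan : Submodule.span F (Set.range w) = ⊤) : M = ⊤ := by
  classical
  let U : ℕ → Submodule F V := fun k => Submodule.span F (w '' Set.Iic k)
  have hmem : ∀ k j, j ≤ k → w j ∈ U k := fun k j h => Submodule.subset_span ⟨j, h, rfl⟩
  have hsucc : ∀ k, U (k + 1) = U k ⊔ Submodule.span F {w (k + 1)} := fun k => by
    simp only [U]
    rw [← Submodule.span_union, ← Set.image_singleton (f := w), ← Set.image_union]
    congr 2
    ext j
    simp [Set.mem_Iic]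
    omega
  have key : ∀ k, ∀ z ∈ U (k + 1), (∃ y ∈ U (k + 1), B z y ≠ 0) → InW M z := by
    intro k
    induction k with
    | zero =>
      intro z hz _
      have h01 : U 1 = Submodule.span F {w 0, w 1} := by
        simp only [U]
        congr 1
        rw [show ({w 0, w 1} : Set V) = w '' {0, 1} by simp [Set.image_pair]]
        congr 1
        ext j
        simp [Set.mem_Iic]
        omega
      rw [show (0 : ℕ) + 1 = 1 from rfl, h01, Submodule.mem_span_pair] at hz
      obtain ⟨s, t, rfl⟩ := hz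
      exact inW_span_pair (hw 0) (hw 1) (hB 0) s t
    | succ k ih =>
      set W0 := U (k + 1) with hW0
      set v := w (k + 2) with hv
      have hU2 : U (k + 2) = W0 ⊔ Submodule.span F {v} := hsucc (k + 1)
      have hlast : B (w (k + 1)) v ≠ 0 := hB (k + 1)
      -- the degenerate part and the part orthogonal to `v`
      let Z₁ : Submodule F V := (W0 ⊓ ⨅ y ∈ W0, LinearMap.ker ((spB m F).flip y)) ⊔ Submodule.span F {v}
      let Z₂ : Submodule F V := LinearMap.ker ((spB m F).flip v)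
      have hv' : v ∈ U (k + 2) := hmem _ _ le_rfl
      have good : ∀ z ∈ U (k + 2), z ∉ Z₁ → z ∉ Z₂ → InW M z := by
        intro z hz h1 h2
        rw [hU2] at hz
        obtain ⟨x, hx, s, hs, rfl⟩ := Submodule.mem_sup.1 hz
        obtain ⟨s, rfl⟩ := Submodule.mem_span_singleton.1 hs
        have hxW : InW M x := by
          refine ih x hx ?_
          by_contra h
          push Not at h
          refine h1 (Submodule.add_mem_sup ⟨hx, ?_⟩ (Submodule.smul_mem _ s (Submodule.mem_span_singleton_self v)))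
          simp only [SetLike.mem_coe, Submodule.mem_iInf, LinearMap.mem_ker, LinearMap.flip_apply]
          exact h
        have hxv : B x v ≠ 0 := fun e => h2 (by
          simp [Z₂, LinearMap.mem_ker, e, AutPSp.B_self])
        simpa using inW_span_pair hxW (hw (k + 2)) hxv 1 s
      have hZ₁ : ¬ U (k + 2) ≤ Z₁ := fun h => by
        have hw1 : w (k + 1) ∈ Z₁ := h (hmem _ _ (by omega))
        obtain ⟨r, hr, s, hs, e⟩ := Submodule.mem_sup.1 hw1
        obtain ⟨s, rfl⟩ := Submodule.mem_span_singleton.1 hs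
        obtain ⟨hrW, hr0⟩ := hr
        simp only [SetLike.mem_coe, Submodule.mem_iInf, LinearMap.mem_ker, LinearMap.flip_apply] at hr0
        have e1 := congrArg (fun x => B x (w (k + 1))) e
        have hr1 : B r (w (k + 1)) = 0 := hr0 _ (hmem _ _ le_rfl)
        simp only [map_add, map_smul, LinearMap.add_apply, LinearMap.smul_apply, smul_eq_mul,
          hr1, zero_add, AutPSp.B_self] at e1
        have hs0 : s = 0 := by
          rcases mul_eq_zero.1 e1 with h' | h'
          · exact h'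
          · exact absurd ((B_eq_zero_comm _ _).1 h') hlast
        rw [hs0, zero_smul, add_zero] at e
        have := hr0 (w k) (hmem _ _ (by omega))
        rw [e] at this
        exact hB k ((B_eq_zero_comm _ _).1 this)
      have hZ₂ : ¬ U (k + 2) ≤ Z₂ := fun h => hlast (by
        simpa [Z₂, LinearMap.mem_ker] using h (hmem _ (k + 1) (by omega)))
      intro z hz hrad
      obtain ⟨y₀, hy₀, hzy₀⟩ := hrad
      have hZ₃ : ¬ U (k + 2) ≤ LinearMap.ker (B z) := fun h => hzy₀ (h hy₀)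
      obtain ⟨y, hy, hy1, hy2, hy3⟩ := exists_avoid hq Z₁ Z₂ _ hZ₁ hZ₂ hZ₃
      obtain ⟨t, ht1, ht2⟩ : ∃ t : F, z + t • y ∉ Z₁ ∧ z + t • y ∉ Z₂ := by
        by_contra h
        push Not at h
        have honce : ∀ Z : Submodule F V, y ∉ Z → ∀ s t : F, z + s • y ∈ Z → z + t • y ∈ Z → s = t := by
          intro Z hZ s t hs ht
          by_contra hst
          refine hZ ((Z.smul_mem_iff (sub_ne_zero.2 hst)).1 ?_)
          convert Z.sub_mem hs ht using 1
          module
        have hcov : ∀ t : F, z + t • y ∈ Z₁ ∨ z + t • y ∈ Z₂ := fun t =>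
          (em (z + t • y ∈ Z₁)).imp id (h t)
        obtain ⟨t₁, t₂, t₃, h12, h13, h23⟩ := Fintype.two_lt_card_iff.1 (show 2 < Fintype.card F by omega)
        rcases hcov t₁ with a1 | a1 <;> rcases hcov t₂ with a2 | a2 <;> rcases hcov t₃ with a3 | a3 <;>
          first
            | exact h12 (honce _ hy1 _ _ a1 a2) | exact h12 (honce _ hy2 _ _ a1 a2)
            | exact h13 (honce _ hy1 _ _ a1 a3) | exact h13 (honce _ hy2 _ _ a1 a3)
            | exact h23 (honce _ hy1 _ _ a2 a3) | exact h23 (honce _ hy2 _ _ a2 a3)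
      have hyW := good y hy hy1 hy2
      have hzW := good _ ((U (k + 2)).add_mem hz ((U (k + 2)).smul_mem t hy)) ht1 ht2
      have := inW_span_pair hzW hyW (by simpa [AutPSp.B_self] using hy3) 1 (-t)
      rwa [show (1 : F) • (z + t • y) + (-t) • y = z by module] at this
  refine eq_top_of_inW fun z hz => ?_
  obtain ⟨w', hw'⟩ := exists_not_orth hz
  have hfin : ∀ x : V, ∃ k, x ∈ U k := fun x => by
    have hx : x ∈ Submodule.span F (Set.range w) := hspan ▸ Submodule.mem_top
    induction hx using Submodule.span_induction with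
    | mem y hy => obtain ⟨j, rfl⟩ := hy; exact ⟨j, hmem j j le_rfl⟩
    | zero => exact ⟨0, Submodule.zero_mem _⟩
    | add a b _ _ ha hb =>
      obtain ⟨i, hi⟩ := ha
      obtain ⟨j, hj⟩ := hb
      exact ⟨max i j, Submodule.add_mem _
        (Submodule.span_mono (Set.image_mono (Set.Iic_subset_Iic.2 (le_max_left i j))) hi)
        (Submodule.span_mono (Set.image_mono (Set.Iic_subset_Iic.2 (le_max_right i j))) hj)⟩
    | smul c a _ ha => obtain ⟨i, hi⟩ := ha; exact ⟨i, Submodule.smul_mem _ c hi⟩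
  obtain ⟨i, hi⟩ := hfin z
  obtain ⟨j, hj⟩ := hfin w'
  refine key (max i j) z (Submodule.span_mono (Set.image_mono (Set.Iic_subset_Iic.2 (by omega))) hi)
    ⟨w', Submodule.span_mono (Set.image_mono (Set.Iic_subset_Iic.2 (by omega))) hj, ?_⟩
  rw [B_swap, hw']
  simp

end big

section two

variable (h01 : ∀ x : F, x = 0 ∨ x = 1)
include h01

theorem two_eq_zero : (1 : F) + 1 = 0 := by
  rcases h01 (1 + 1) with e | e
  · exact e
  · simp at e

theorem add_self_vec (x : V) : x + x = 0 := by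
  rw [show x + x = ((1 : F) + 1) • x by module, two_eq_zero h01, zero_smul]

theorem B_comm2 (x y : V) : B x y = B y x := by
  rw [B_swap, neg_eq_iff_add_eq_zero]
  rcases h01 (B y x) with e | e <;> rw [e]
  · simp
  · exact two_eq_zero h01

theorem inW_add2 {x y : V} (hx : InW M x) (hy : InW M y) (h : B x y = 1) : InW M (x + y) := by
  simpa using inW_span_pair hx hy (by rw [h]; exact one_ne_zero) 1 1

/-- The subspaces which are non-degenerate and consist of members. -/
def Full (M : Subgroup (Matrix.symplecticGroup (Fin m) F)) (U : Submodule F V) : Prop :=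
  (∀ z ∈ U, InW M z) ∧ (∀ v : V, ∃ x ∈ U, ∀ y ∈ U, B (v - x) y = 0) ∧
    ∀ x ∈ U, x ≠ 0 → ∃ z ∈ U, B x z = 1

/-- Four vectors with the Gram matrix of a path. -/
structure Path (a b c d : V) : Prop where
  ab : B a b = 1
  bc : B b c = 1
  cd : B c d = 1
  ac : B a c = 0
  bd : B b d = 0
  ad : B a d = 0

theorem Path.rev {a b c d : V} (h : Path a b c d) :
    B b a = 1 ∧ B c b = 1 ∧ B d c = 1 ∧ B c a = 0 ∧ B d b = 0 ∧ B d a = 0 :=
  ⟨by rw [B_comm2 h01, h.ab], by rw [B_comm2 h01, h.bc], by rw [B_comm2 h01, h.cd],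
    by rw [B_comm2 h01, h.ac], by rw [B_comm2 h01, h.bd], by rw [B_comm2 h01, h.ad]⟩

theorem seed_inW {a b c d : V} (h : Path a b c d) (ha : InW M a) (hb : InW M b) (hc : InW M c)
    (hd : InW M d) (hac : InW M (a + c)) (s₁ s₂ s₃ s₄ : F) :
    InW M (s₁ • a + s₂ • b + s₃ • c + s₄ • d) := by
  obtain ⟨hab, hbc, hcd, h02, h13, h03⟩ := h
  obtain ⟨hba, hcb, hdc, hca, hdb, hda⟩ := Path.rev h01 ⟨hab, hbc, hcd, h02, h13, h03⟩
  have two := two_eq_zero h01
  have dbl := add_self_vec (m := m) h01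
  have p_ab := inW_add2 h01 ha hb hab
  have p_bc := inW_add2 h01 hb hc hbc
  have p_cd := inW_add2 h01 hc hd hcd
  have t_abc : InW M (a + b + c) := inW_add2 h01 p_ab hc (by simp [h02, hbc])
  have t_bcd : InW M (b + c + d) := inW_add2 h01 p_bc hd (by simp [h13, hcd])
  have f_abcd : InW M (a + b + c + d) := inW_add2 h01 t_abc hd (by simp [h03, h13, hcd])
  have t_acd : InW M (a + c + d) := inW_add2 h01 hac hd (by simp [h03, hcd])
  have p_ad : InW M (a + d) := by
    have := inW_add2 h01 hac p_cd (by simp [h02, h03, hcd, AutPSp.B_self])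
    rwa [show a + c + (c + d) = a + d + (c + c) by abel, dbl, add_zero] at this
  have t_abd : InW M (a + b + d) := by
    have := inW_add2 h01 hac t_bcd (by simp [hab, h02, h03, hcb, hcd, AutPSp.B_self]; linear_combination two)
    rwa [show a + c + (b + c + d) = a + b + d + (c + c) by abel, dbl, add_zero] at this
  have p_bd : InW M (b + d) := by
    have := inW_add2 h01 t_abd ha (by simp [hba, hda, AutPSp.B_self])
    rwa [show a + b + d + a = b + d + (a + a) by abel, dbl, add_zero] at this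
  rcases h01 s₁ with rfl | rfl <;> rcases h01 s₂ with rfl | rfl <;> rcases h01 s₃ with rfl | rfl <;>
    rcases h01 s₄ with rfl | rfl <;> simp only [zero_smul, one_smul, zero_add, add_zero]
  all_goals first
    | exact inW_zero | exact ha | exact hb | exact hc | exact hd | exact hac | exact p_ab
    | exact p_bc | exact p_cd | exact p_ad | exact p_bd | exact t_abc | exact t_bcd | exact t_acd
    | exact t_abd | exact f_abcd

theorem seed_full {a b c d : V} (h : Path a b c d) (ha : InW M a) (hb : InW M b) (hc : InW M c)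
    (hd : InW M d) (hac : InW M (a + c)) : Full M (Submodule.span F {a, b, c, d}) := by
  obtain ⟨hba, hcb, hdc, hca, hdb, hda⟩ := Path.rev h01 h
  have two := two_eq_zero h01
  set U0 := Submodule.span F {a, b, c, d} with hU0
  have memU0 : ∀ z ∈ U0, ∃ s₁ s₂ s₃ s₄ : F, z = s₁ • a + s₂ • b + s₃ • c + s₄ • d := by
    intro z hz
    simp only [U0, Submodule.mem_span_insert, Submodule.mem_span_singleton] at hz
    obtain ⟨s₁, _, ⟨s₂, _, ⟨s₃, _, ⟨s₄, rfl⟩, rfl⟩, rfl⟩, rfl⟩ := hz
    exact ⟨s₁, s₂, s₃, s₄, by abel⟩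
  have ha0 : a ∈ U0 := Submodule.subset_span (by simp)
  have hb0 : b ∈ U0 := Submodule.subset_span (by simp)
  have hc0 : c ∈ U0 := Submodule.subset_span (by simp)
  have hd0 : d ∈ U0 := Submodule.subset_span (by simp)
  refine ⟨fun z hz => ?_, fun v => ?_, fun x hx hx0 => ?_⟩
  · obtain ⟨s₁, s₂, s₃, s₄, rfl⟩ := memU0 z hz
    exact seed_inW h01 h ha hb hc hd hac _ _ _ _
  · refine ⟨(B v b + B v d) • a + B v a • b + B v d • c + (B v c + B v a) • d, ?_, fun y hy => ?_⟩
    · exact U0.add_mem (U0.add_mem (U0.add_mem (U0.smul_mem _ ha0) (U0.smul_mem _ hb0))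
        (U0.smul_mem _ hc0)) (U0.smul_mem _ hd0)
    · obtain ⟨s₁, s₂, s₃, s₄, rfl⟩ := memU0 y hy
      simp [AutPSp.B_self, h.ab, h.bc, h.cd, h.ac, h.bd, h.ad, hba, hcb, hdc, hca, hdb, hda]
      linear_combination -(s₂ * B v d + s₃ * B v a) * two
  · obtain ⟨s₁, s₂, s₃, s₄, rfl⟩ := memU0 x hx
    by_contra hne
    push Not at hne
    have h0 : ∀ y ∈ U0, B (s₁ • a + s₂ • b + s₃ • c + s₄ • d) y = 0 := fun y hy =>
      (h01 _).resolve_right (hne y hy)
    have ea := h0 a ha0
    have eb := h0 b hb0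
    have ec := h0 c hc0
    have ed := h0 d hd0
    simp [AutPSp.B_self, h.ab, h.bc, h.cd, h.ac, h.bd, h.ad, hba, hcb, hdc, hca, hdb, hda] at ea eb ec ed
    subst ea ed
    obtain rfl : s₁ = 0 := by simpa using eb
    obtain rfl : s₄ = 0 := by simpa using ec
    simp at hx0

theorem spread {U : Submodule F V} (hU : Full M U) {r : V} (hr : ∀ y ∈ U, B r y = 0)
    {x' : V} (hx' : x' ∈ U) (x'0 : x' ≠ 0) (hW : InW M (r + x')) {x : V} (hx : x ∈ U) (x0 : x ≠ 0) :
    InW M (r + x) := by
  have dbl := add_self_vec (m := m) h01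
  obtain ⟨z₁, hz₁, e₁⟩ := hU.2.2 x' hx' x'0
  obtain ⟨z₂, hz₂, e₂⟩ := hU.2.2 x hx x0
  rcases h01 (B x' x) with e | e
  swap
  · have := inW_add2 h01 hW (hU.1 _ (U.add_mem hx' hx)) (by
      simp [hr x' hx', hr x hx, e, AutPSp.B_self])
    rwa [show r + x' + (x' + x) = r + x + (x' + x') by abel, dbl, add_zero] at this
  · obtain ⟨z, hz, f1, f2⟩ : ∃ z ∈ U, B x' z = 1 ∧ B x z = 1 := by
      rcases h01 (B x z₁) with f₁ | f₁
      · rcases h01 (B x' z₂) with f₂ | f₂
        · exact ⟨z₁ + z₂, U.add_mem hz₁ hz₂, by simp [e₁, f₂], by simp [e₂, f₁]⟩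
        · exact ⟨z₂, hz₂, f₂, e₂⟩
      · exact ⟨z₁, hz₁, e₁, f₁⟩
    have s1 := inW_add2 h01 hW (hU.1 z hz) (by simp [hr z hz, f1])
    have s2 := inW_add2 h01 s1 (hU.1 (z + (x' + x)) (U.add_mem hz (U.add_mem hx' hx))) (by
      rw [B_comm2 h01] at f2
      have f1' : B z x' = 1 := by rw [B_comm2 h01]; exact f1
      simp [hr z hz, hr x' hx', hr x hx, e, f1, f1', f2, AutPSp.B_self]
      linear_combination two_eq_zero h01)
    rwa [show r + x' + z + (z + (x' + x)) = r + x + (x' + x') + (z + z) by abel, dbl, dbl,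
      add_zero, add_zero] at s2

omit h01 in
theorem path_mem {a b c d : V} {U : Submodule F V} (h : Submodule.span F {a, b, c, d} ≤ U) :
    a ∈ U ∧ b ∈ U ∧ c ∈ U ∧ d ∈ U :=
  ⟨h (Submodule.subset_span (by simp)), h (Submodule.subset_span (by simp)),
    h (Submodule.subset_span (by simp)), h (Submodule.subset_span (by simp))⟩

theorem three {a b c d : V} (h : Path a b c d) {U : Submodule F V}
    (hle : Submodule.span F {a, b, c, d} ≤ U) (y : V) : ∃ x ∈ U, x ≠ 0 ∧ x ≠ y ∧ B x y = 0 := by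
  obtain ⟨ha, hb, hc, hd⟩ := path_mem hle
  obtain ⟨hba, hcb, hdc, hca, hdb, hda⟩ := Path.rev h01 h
  obtain ⟨x, hxU, hxy, hxab, hxac⟩ :
      ∃ x ∈ U, B x y = 0 ∧ (B x a = 1 ∨ B x b = 1) ∧ (B x a = 0 → B x c = 0 ∧ B x d = 0) := by
    rcases h01 (B a y) with e | e
    · exact ⟨a, ha, e, Or.inr h.ab, fun _ => ⟨h.ac, h.ad⟩⟩
    rcases h01 (B b y) with f | f
    · exact ⟨b, hb, f, Or.inl hba, fun h' => absurd (hba.symm.trans h') one_ne_zero⟩
    refine ⟨a + b, U.add_mem ha hb, by simp [e, f, two_eq_zero h01], Or.inl ?_, fun h' => ?_⟩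
    · simp [hba, AutPSp.B_self]
    · simp [hba, AutPSp.B_self] at h'
  obtain ⟨x', hx'U, hx'y, hx'a, hx'cd⟩ :
      ∃ x' ∈ U, B x' y = 0 ∧ B x' a = 0 ∧ (B x' c = 1 ∨ B x' d = 1) := by
    rcases h01 (B c y) with e | e
    · exact ⟨c, hc, e, hca, Or.inr h.cd⟩
    rcases h01 (B d y) with f | f
    · exact ⟨d, hd, f, hda, Or.inl hdc⟩
    exact ⟨c + d, U.add_mem hc hd, by simp [e, f, two_eq_zero h01], by simp [hca, hda],
      Or.inl (by simp [hdc, AutPSp.B_self])⟩
  by_cases hxy0 : x = y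
  · refine ⟨x', hx'U, fun e => ?_, fun e => ?_, hx'y⟩
    · rcases hx'cd with h' | h' <;> simp [e] at h'
    · have hxx : x = x' := hxy0.trans e.symm
      obtain ⟨h1, h2⟩ := hxac (hxx ▸ hx'a)
      rcases hx'cd with h' | h'
      · rw [← hxx, h1] at h'; exact zero_ne_one h'
      · rw [← hxx, h2] at h'; exact zero_ne_one h'
  · refine ⟨x, hxU, fun e => ?_, hxy0, hxy⟩
    rcases hxab with h' | h' <;> simp [e] at h'

/-- A connected spanning chain with a seed, two scalars. -/
theorem eq_top_of_chain_two [Finite F] (w : ℕ → V) (hw : ∀ k, InW M (w k))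
    (hB : ∀ k, B (w k) (w (k + 1)) = 1) (hspan : Submodule.span F (Set.range w) = ⊤)
    (h02 : B (w 0) (w 2) = 0) (h13 : B (w 1) (w 3) = 0) (h03 : B (w 0) (w 3) = 0)
    (hac : InW M (w 0 + w 2)) : M = ⊤ := by
  classical
  have hP : Path (w 0) (w 1) (w 2) (w 3) := ⟨hB 0, hB 1, hB 2, h02, h13, h03⟩
  have dbl := add_self_vec (m := m) h01
  set U0 := Submodule.span F {w 0, w 1, w 2, w 3} with hU0def
  obtain ⟨U, ⟨hU0, hU⟩, hmax⟩ :=
    (Set.toFinite {U : Submodule F V | U0 ≤ U ∧ Full M U}).exists_maximal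
      ⟨U0, le_rfl, seed_full h01 hP (hw 0) (hw 1) (hw 2) (hw 3) hac⟩
  obtain ⟨hUW, hproj, hnd⟩ := id hU
  suffices hall : ∀ k, w k ∈ U by
    refine eq_top_of_inW fun v _ => hUW v ?_
    have : Submodule.span F (Set.range w) ≤ U := Submodule.span_le.2 (by rintro _ ⟨k, rfl⟩; exact hall k)
    exact this (hspan ▸ Submodule.mem_top)
  by_contra hne
  push Not at hne
  have hex : ∃ k, w k ∉ U := hne
  set k := Nat.find hex with hk
  have hkU : w k ∉ U := Nat.find_spec hex
  obtain ⟨j, hj⟩ : ∃ j, k = j + 1 := ⟨k - 1, by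
    have : k ≠ 0 := fun e => hkU (e ▸ (path_mem hU0).1)
    omega⟩
  have hjU : w j ∈ U := by
    by_contra h
    exact Nat.find_min hex (by omega : j < k) h
  obtain ⟨x₀, hx₀, hperp⟩ := hproj (w k)
  obtain ⟨r, hr⟩ : ∃ r, r = w k - x₀ := ⟨_, rfl⟩
  rw [← hr] at hperp
  have hwk : w k = r + x₀ := by rw [hr]; abel
  have hperp' : ∀ y ∈ U, B y r = 0 := fun y hy => by rw [B_comm2 h01]; exact hperp y hy
  have hx00 : x₀ ≠ 0 := fun e => by
    have h1 := hperp' _ hjU
    rw [hr, e, sub_zero, hj, hB] at h1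
    exact one_ne_zero h1
  have hr0 : r ≠ 0 := fun e => hkU (by rw [hwk, e, zero_add]; exact hx₀)
  have hrW : ∀ x ∈ U, x ≠ 0 → InW M (r + x) := fun x hx x0 =>
    spread h01 hU hperp hx₀ hx00 (hwk ▸ hw k) hx x0
  obtain ⟨l, hl⟩ : ∃ l, B r (w l) = 1 := by
    by_contra h
    push Not at h
    have hker : Submodule.span F (Set.range w) ≤ LinearMap.ker (B r) := Submodule.span_le.2 (by
      rintro _ ⟨l, rfl⟩; exact (h01 _).resolve_right (h l))
    obtain ⟨y, hy⟩ := exists_not_orth hr0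
    have := hker (hspan ▸ Submodule.mem_top (x := y))
    rw [LinearMap.mem_ker, B_comm2 h01, hy] at this
    exact one_ne_zero this
  obtain ⟨x₁, hx₁, hperp₁⟩ := hproj (w l)
  obtain ⟨r'', hr''⟩ : ∃ r'', r'' = w l - x₁ := ⟨_, rfl⟩
  rw [← hr''] at hperp₁
  have hperp'' : ∀ y ∈ U, B y r'' = 0 := fun y hy => by rw [B_comm2 h01]; exact hperp₁ y hy
  have hrr : B r r'' = 1 := by rw [hr'', map_sub, hl, hperp x₁ hx₁, sub_zero]
  have hrr' : B r'' r = 1 := by rw [B_comm2 h01]; exact hrr
  have hr''W : ∀ x ∈ U, x ≠ 0 → InW M (r'' + x) := fun xx hxx xx0 => by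
    by_cases e : x₁ = 0
    · obtain ⟨x, hx, hx0, hxne, hxo⟩ := three h01 hP hU0 x₀
      have s0 : InW M r'' := by rw [hr'', e, sub_zero]; exact hw l
      have s1 := inW_add2 h01 (hrW x₀ hx₀ hx00) s0 (by simp [hrr, hperp'' x₀ hx₀])
      have s2 := inW_add2 h01 s1 (hrW x hx hx0) (by
        rw [B_comm2 h01] at hxo
        simp [hrr', hperp x hx, hperp' x₀ hx₀, hperp₁ x hx, hxo, AutPSp.B_self])
      rw [show r + x₀ + r'' + (r + x) = r'' + (x₀ + x) + (r + r) by abel, dbl, add_zero] at s2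
      refine spread h01 hU hperp₁ (U.add_mem hx₀ hx) (fun e' => hxne ?_) s2 hxx xx0
      calc x = x + (x₀ + x₀) := by rw [dbl, add_zero]
        _ = x₀ := by rw [show x + (x₀ + x₀) = x₀ + x + x₀ by abel, e', zero_add]
    · exact spread h01 hU hperp₁ hx₁ e (by rw [hr'', sub_add_cancel]; exact hw l) hxx xx0
  obtain ⟨x, hx, hx0, -⟩ := three h01 hP hU0 0
  have hpW : InW M (r + r'') := by
    have := inW_add2 h01 (hrW x hx hx0) (hr''W x hx hx0) (by
      simp [hrr, hperp x hx, hperp'' x hx, AutPSp.B_self])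
    rwa [show r + x + (r'' + x) = r + r'' + (x + x) by abel, dbl, add_zero] at this
  have hpyW : ∀ y ∈ U, InW M (r + r'' + y) := by
    intro y hy
    by_cases hy0 : y = 0
    · simpa [hy0] using hpW
    obtain ⟨z, hz, hz0, hzy, hzo⟩ := three h01 hP hU0 y
    have := inW_add2 h01 (hrW z hz hz0) (hr''W (z + y) (U.add_mem hz hy) (fun e' => hzy (by
      calc z = z + (y + y) := by rw [dbl, add_zero]
        _ = y := by rw [← add_assoc, e', zero_add]))) (by
      simp [hrr, hperp z hz, hperp y hy, hperp'' z hz, hzo, AutPSp.B_self])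
    rwa [show r + z + (r'' + (z + y)) = r + r'' + y + (z + z) by abel, dbl, add_zero] at this
  have hrpure : InW M r := by
    have := inW_add2 h01 (hr''W x hx hx0) (hpyW x hx) (by
      simp [hrr', hperp₁ x hx, hperp' x hx, hperp'' x hx, AutPSp.B_self])
    rwa [show r'' + x + (r + r'' + x) = r + (r'' + r'') + (x + x) by abel, dbl, dbl, add_zero,
      add_zero] at this
  have hr''pure : InW M r'' := by
    have := inW_add2 h01 (hrW x hx hx0) (hpyW x hx) (by
      simp [hrr, hperp x hx, hperp' x hx, hperp'' x hx, AutPSp.B_self])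
    rwa [show r + x + (r + r'' + x) = r'' + (r + r) + (x + x) by abel, dbl, dbl, add_zero,
      add_zero] at this
  let U' : Submodule F V := U ⊔ Submodule.span F {r, r''}
  have memU' : ∀ z ∈ U', ∃ y ∈ U, ∃ s t : F, z = y + (s • r + t • r'') := by
    intro z hz
    obtain ⟨y, hy, q, hq, rfl⟩ := Submodule.mem_sup.1 hz
    obtain ⟨s, t, rfl⟩ := Submodule.mem_span_pair.1 hq
    exact ⟨y, hy, s, t, rfl⟩
  have hrU' : r ∈ U' := Submodule.mem_sup_right (Submodule.subset_span (by simp))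
  have hr''U' : r'' ∈ U' := Submodule.mem_sup_right (Submodule.subset_span (by simp))
  have hP' : U0 ≤ U' ∧ Full M U' := by
    refine ⟨hU0.trans le_sup_left, fun z hz => ?_, fun v => ?_, fun z hz hz0 => ?_⟩
    · obtain ⟨y, hy, s, t, rfl⟩ := memU' z hz
      by_cases hy0 : y = 0
      · subst hy0
        rcases h01 s with rfl | rfl <;> rcases h01 t with rfl | rfl <;>
          simp only [zero_smul, one_smul, zero_add, add_zero]
        exacts [inW_zero, hr''pure, hrpure, hpW]
      · rcases h01 s with rfl | rfl <;> rcases h01 t with rfl | rfl <;>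
          simp only [zero_smul, one_smul, zero_add, add_zero]
        exacts [hUW y hy, add_comm r'' y ▸ hr''W y hy hy0, add_comm r y ▸ hrW y hy hy0,
          add_comm (r + r'') y ▸ hpyW y hy]
    · obtain ⟨x', hx', hv⟩ := hproj v
      refine ⟨x' + (B v r'' • r + B v r • r''),
        Submodule.add_mem _ (Submodule.mem_sup_left hx')
          (Submodule.add_mem _ (Submodule.smul_mem _ _ hrU') (Submodule.smul_mem _ _ hr''U')),
        fun z hz => ?_⟩
      obtain ⟨y, hy, s, t, rfl⟩ := memU' z hz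
      have hvy := hv y hy
      simp only [map_sub, LinearMap.sub_apply] at hvy
      simp [hperp y hy, hperp₁ y hy, hperp' x' hx', hperp'' x' hx', hrr, hrr', AutPSp.B_self]
      linear_combination hvy
    · obtain ⟨y, hy, s, t, rfl⟩ := memU' z hz
      by_cases hy0 : y = 0
      · subst hy0
        rcases h01 t with rfl | rfl
        · rcases h01 s with rfl | rfl
          · simp at hz0
          · exact ⟨r'', hr''U', by simp [hrr]⟩
        · refine ⟨r, hrU', by simp [hrr', AutPSp.B_self]⟩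
      · obtain ⟨z', hz', e⟩ := hnd y hy hy0
        exact ⟨z', Submodule.mem_sup_left hz', by simp [e, hperp z' hz', hperp₁ z' hz']⟩
  have hle : U' ≤ U := hmax hP' le_sup_left
  exact hkU (hwk ▸ U.add_mem (hle hrU') hx₀)

end two

end Cfsg.Agent.SpThreeUnip
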