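import Cfsg.Agent.Lib.SpThreeUnip.Model
import Cfsg.Agent.Lib.SpThreeUnip.Span
import Cfsg.Agent.Lib.SpThreeUnip.Nine
import Cfsg.Agent.Lib.AutPSp.Centre
import Cfsg.Agent.Lib.Forms.SpSimple

/-!
`Sp_{2n}` is generated by three conjugates of a regular unipotent element.
-/

set_option autoImplicit false

namespace Cfsg.Agent.SpThreeUnip

open Matrix Cfsg.Agent.FormsLib Cfsg.Agent.AutPSp Cfsg.Agent.ClassTwoGen.SpGen

universe u

variable {n : ℕ} {F : Type u} [Field F]

local notation "V" => Fin n ⊕ Fin n → F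
local notation "B" => spB n F
local notation "Sp" => Matrix.symplecticGroup (Fin n) F
local notation "Mat" => Matrix (Fin n ⊕ Fin n) (Fin n ⊕ Fin n) F

variable (Q : Model n F)

/-- The conclusion. -/
def Gen : Prop :=
  ∃ g h : Sp, Subgroup.closure ({Q.el, g * Q.el * g⁻¹, h * Q.el * h⁻¹} : Set Sp) = ⊤

theorem N_z (k : ℕ) : ((Q.el : Mat) - 1) *ᵥ Q.z k = Q.z (k + 1) := by
  rw [Matrix.sub_mulVec, Q.step, Matrix.one_mulVec, add_sub_cancel_left]

theorem N_pow_z (j : ℕ) : ∀ k, ((Q.el : Mat) - 1) ^ j *ᵥ Q.z k = Q.z (k + j) := by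
  induction j with
  | zero => intro k; simp
  | succ j ih =>
    intro k
    rw [pow_succ, ← Matrix.mulVec_mulVec, N_z, ih]
    congr 1
    omega

theorem isNilpotent_el : IsNilpotent ((Q.el : Mat) - 1) := by
  refine ⟨2 * n, Matrix.toLin'.injective (LinearMap.ext fun x => ?_)⟩
  rw [map_zero, LinearMap.zero_apply, Matrix.toLin'_apply]
  have hx : x ∈ Submodule.span F (Set.range Q.z) := Q.span ▸ Submodule.mem_top
  induction hx using Submodule.span_induction with
  | mem y hy => obtain ⟨k, rfl⟩ := hy; rw [N_pow_z, Q.high _ (by omega)]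
  | zero => rw [Matrix.mulVec_zero]
  | add a b _ _ ha hb => rw [Matrix.mulVec_add, ha, hb, add_zero]
  | smul c a _ ha => rw [Matrix.mulVec_smul, ha, smul_zero]

theorem pow_el_ne_zero : ((Q.el : Mat) - 1) ^ (2 * n - 1) ≠ 0 := fun h => by
  have := N_pow_z Q (2 * n - 1) 0
  rw [h, Matrix.zero_mulVec, zero_add] at this
  exact Q.top_ne this.symm

/-- The orbit of the first vector. -/
noncomputable def orb (k : ℕ) : V := ((Q.el ^ k : Sp) : Mat) *ᵥ Q.z 0

theorem orb_zero : orb Q 0 = Q.z 0 := by simp [orb]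

theorem orb_succ (k : ℕ) : orb Q (k + 1) = (Q.el : Mat) *ᵥ orb Q k := by
  rw [orb, orb, pow_succ', Submonoid.coe_mul, Matrix.mulVec_mulVec]

theorem orb_one : orb Q 1 = Q.z 0 + Q.z 1 := by rw [orb_succ, orb_zero, Q.step]

theorem orb_two : orb Q 2 = Q.z 0 + Q.z 1 + (Q.z 1 + Q.z 2) := by
  rw [orb_succ, orb_one, Matrix.mulVec_add, Q.step, Q.step]

theorem orb_three : orb Q 3 = Q.z 0 + Q.z 1 + (Q.z 1 + Q.z 2) + (Q.z 1 + Q.z 2 + (Q.z 2 + Q.z 3)) := by
  rw [orb_succ, orb_two, Matrix.mulVec_add, Matrix.mulVec_add, Matrix.mulVec_add, Q.step, Q.step, Q.step]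

theorem orb_span : Submodule.span F (Set.range (orb Q)) = ⊤ := by
  rw [← top_le_iff, ← Q.span, Submodule.span_le]
  rintro _ ⟨k, rfl⟩
  induction k with
  | zero => exact Submodule.subset_span ⟨0, orb_zero Q⟩
  | succ k ih =>
    have hu : ∀ x ∈ Submodule.span F (Set.range (orb Q)),
        (Q.el : Mat) *ᵥ x ∈ Submodule.span F (Set.range (orb Q)) := by
      intro x hx
      induction hx using Submodule.span_induction with
      | mem y hy => obtain ⟨j, rfl⟩ := hy; exact Submodule.subset_span ⟨j + 1, orb_succ Q j⟩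
      | zero => rw [Matrix.mulVec_zero]; exact zero_mem _
      | add a b _ _ ha hb => rw [Matrix.mulVec_add]; exact add_mem ha hb
      | smul c a _ ha => rw [Matrix.mulVec_smul]; exact Submodule.smul_mem _ _ ha
    have := Submodule.sub_mem _ (hu _ ih) ih
    rwa [Q.step, add_sub_cancel_left] at this

theorem orb_B (k l : ℕ) : B (orb Q (k + l)) (orb Q k) = B (orb Q l) (orb Q 0) := by
  induction k with
  | zero => rw [zero_add]
  | succ k ih =>
    rw [show k + 1 + l = (k + l) + 1 by omega, orb_succ, orb_succ, B_sp, ih]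

theorem orb_B_next (hn : 2 ≤ n) (k : ℕ) : B (orb Q k) (orb Q (k + 1)) = 1 := by
  rw [B_swap, orb_B, ← B_swap, orb_zero, orb_one, map_add, AutPSp.B_self, Q.val, gram_01 hn]
  simp

theorem inW_orb {M : Subgroup Sp} (hu : Q.el ∈ M) (h : InW M (orb Q 0)) : ∀ k, InW M (orb Q k) := by
  intro k
  induction k with
  | zero => exact h
  | succ k ih => rw [orb_succ]; exact ih.map hu

/-- The fixed vector. -/
def top_ : V := Q.z (2 * n - 1)

theorem el_top (hn : 2 ≤ n) : (Q.el : Mat) *ᵥ top_ Q = top_ Q := by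
  rw [top_, Q.step, Q.high (2 * n - 1 + 1) (by omega), add_zero]

theorem inv_el_top (hn : 2 ≤ n) : ((Q.el⁻¹ : Sp) : Mat) *ᵥ top_ Q = top_ Q := by
  conv_lhs => rw [← el_top Q hn]
  rw [sp_coe_inv_mulVec]

theorem inv_el_pen (hn : 2 ≤ n) :
    ((Q.el⁻¹ : Sp) : Mat) *ᵥ Q.z (2 * n - 2) = Q.z (2 * n - 2) - top_ Q := by
  have h : (Q.el : Mat) *ᵥ (Q.z (2 * n - 2) - top_ Q) = Q.z (2 * n - 2) := by
    rw [Matrix.mulVec_sub, Q.step, el_top Q hn, show 2 * n - 2 + 1 = 2 * n - 1 by omega, top_,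
      add_sub_cancel_right]
  conv_lhs => rw [← h]
  rw [sp_coe_inv_mulVec]

variable [Fintype F]

theorem gen_even (hn : 2 ≤ n) [CharP F 2] (h4 : 4 ≤ Fintype.card F) : Gen Q := by
  obtain ⟨g, hg⟩ := IsCyclic.exists_generator (α := Fˣ)
  set v := Q.z 0
  refine ⟨tr v (g : F), tr v 1, ?_⟩
  set M := Subgroup.closure ({Q.el, tr v (g : F) * Q.el * (tr v (g : F))⁻¹,
    tr v 1 * Q.el * (tr v 1)⁻¹} : Set Sp) with hM
  have hu : Q.el ∈ M := Subgroup.subset_closure (by simp)
  set v' := ((Q.el⁻¹ : Sp) : Mat) *ᵥ v with hv'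
  have hB : B v' v = 1 := by
    rw [← B_sp Q.el, hv', sp_coe_mulVec_inv]
    simpa [orb_zero, orb_succ, v] using orb_B_next Q hn 0
  obtain ⟨f, hf1, hf2⟩ := exists_plane_hom hB one_ne_zero
  have hx : ∀ a : F, tr v a * Q.el * (tr v a)⁻¹ ∈ M → bigX a ∈ M.comap f := by
    intro a ha
    rw [Subgroup.mem_comap, bigX, map_mul, hf1, hf2]
    have e : Q.el⁻¹ * (tr v a * Q.el * (tr v a)⁻¹) = tr v' a * (tr v a)⁻¹ := by
      rw [hv', ← tr_conj, inv_inv]; group
    have e2 : (tr v a : Sp)⁻¹ = tr v a := inv_eq_of_mul_eq_one_right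
      (by rw [← pow_two]; exact tr_pow_char 2 v a)
    rw [show -a * (1 : F)⁻¹ = a by rw [inv_one, mul_one, CharTwo.neg_eq], inv_one, mul_one]
    rw [e2] at e ha
    rw [← e]
    exact M.mul_mem (M.inv_mem hu) ha
  have hK : M.comap f = ⊤ := gen_bigX h4 hg (hx _ (Subgroup.subset_closure (by simp)))
    (hx _ (Subgroup.subset_closure (by simp)))
  have hW : InW M v := fun c => by
    have := (hK ▸ Subgroup.mem_top (lw c) : lw c ∈ M.comap f)
    rw [Subgroup.mem_comap, hf2, inv_one, mul_one] at this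
    exact this
  exact eq_top_of_chain_big (by omega) (orb Q) (inW_orb Q hu (by rwa [orb_zero]))
    (fun k => by rw [orb_B_next Q hn]; exact one_ne_zero) (orb_span Q)

theorem gen_nine (hn : 2 ≤ n) (h9 : Fintype.card F = 9) : Gen Q := by
  obtain ⟨s, t, hst⟩ := lw_of_bigX h9
  set v := Q.z 0
  refine ⟨tr v (-s), tr v (-t), ?_⟩
  set M := Subgroup.closure ({Q.el, tr v (-s) * Q.el * (tr v (-s))⁻¹,
    tr v (-t) * Q.el * (tr v (-t))⁻¹} : Set Sp) with hM
  have hu : Q.el ∈ M := Subgroup.subset_closure (by simp)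
  set v' := ((Q.el⁻¹ : Sp) : Mat) *ᵥ v with hv'
  have hB : B v' v = 1 := by
    rw [← B_sp Q.el, hv', sp_coe_mulVec_inv]
    simpa [orb_zero, orb_succ, v] using orb_B_next Q hn 0
  obtain ⟨f, hf1, hf2⟩ := exists_plane_hom hB one_ne_zero
  have hinv : ∀ a : F, (tr v a : Sp)⁻¹ = tr v (-a) := fun a => inv_eq_of_mul_eq_one_right (by
    apply sp_ext
    intro x
    simp [← Matrix.mulVec_mulVec, AutPSp.B_self])
  have hx : ∀ a : F, tr v (-a) * Q.el * (tr v (-a))⁻¹ ∈ M → bigX a ∈ M.comap f := by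
    intro a ha
    rw [Subgroup.mem_comap, bigX, map_mul, hf1, hf2]
    simp only [inv_one, mul_one]
    have e : Q.el⁻¹ * (tr v (-a) * Q.el * (tr v (-a))⁻¹) = tr v' (-a) * (tr v (-a))⁻¹ := by
      rw [hv', ← tr_conj, inv_inv]; group
    rw [hinv, neg_neg] at e ha
    rw [← e]
    exact M.mul_mem (M.inv_mem hu) ha
  have hW : InW M v := fun c => by
    have := hst (K := M.comap f) (hx _ (Subgroup.subset_closure (by simp)))
      (hx _ (Subgroup.subset_closure (by simp))) c
    rw [Subgroup.mem_comap, hf2, inv_one, mul_one] at this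
    exact this
  exact eq_top_of_chain_big (by omega) (orb Q) (inW_orb Q hu (by rwa [orb_zero]))
    (fun k => by rw [orb_B_next Q hn]; exact one_ne_zero) (orb_span Q)

/-- From a transvection at the fixed vector and a conjugate moving `z₀` to it. -/
theorem moved {h : Sp} (hh : (h : Mat) *ᵥ Q.z 0 = top_ Q) (k : ℕ) :
    ((h * Q.el * h⁻¹ : Sp) : Mat) *ᵥ ((h : Mat) *ᵥ orb Q k) = (h : Mat) *ᵥ orb Q (k + 1) := by
  rw [Submonoid.coe_mul, Submonoid.coe_mul, ← Matrix.mulVec_mulVec, ← Matrix.mulVec_mulVec,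
    sp_coe_inv_mulVec, orb_succ]

theorem moved_span (h : Sp) :
    Submodule.span F (Set.range fun k => (h : Mat) *ᵥ orb Q k) = ⊤ := by
  rw [show (fun k => (h : Mat) *ᵥ orb Q k) = Matrix.toLin' (h : Mat) ∘ orb Q from
    funext fun k => (Matrix.toLin'_apply _ _).symm, Set.range_comp, ← Submodule.map_span, orb_span,
    Submodule.map_top, LinearMap.range_eq_top]
  intro x
  exact ⟨((h⁻¹ : Sp) : Mat) *ᵥ x, by rw [Matrix.toLin'_apply, sp_coe_mulVec_inv]⟩

theorem gen_odd (hn : 2 ≤ n) (h2 : (2 : F) ≠ 0) (h9 : Fintype.card F ≠ 9) : Gen Q := by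
  obtain ⟨g0, hg0⟩ := IsCyclic.exists_generator (α := Fˣ)
  set a : F := (g0 : F)
  have ha : a ≠ 0 := g0.ne_zero
  set e := top_ Q
  set t : F := -a / 2
  have hye : B e (Q.z (2 * n - 2)) = 0 := by
    simp only [e, top_, Q.val, gram_zero hn (show 2 * n ≤ 2 * n - 1 + (2 * n - 2) by omega), Int.cast_zero]
  have hey : B (Q.z (2 * n - 2)) e = 0 := (B_eq_zero_comm _ _).1 hye
  have hx : B e (t • Q.z (2 * n - 2)) = 0 := by rw [map_smul, hye, smul_zero]
  set g := qE e (t • Q.z (2 * n - 2)) hx 0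
  obtain ⟨h, hh⟩ := exists_map_vector (x := Q.z 0) (y := e) (m := n)
    (fun h0 => by
      have := orb_B_next Q hn 0
      rw [orb_zero, h0, map_zero, LinearMap.zero_apply] at this
      exact zero_ne_one this) Q.top_ne
  refine ⟨g, h, ?_⟩
  set M := Subgroup.closure ({Q.el, g * Q.el * g⁻¹, h * Q.el * h⁻¹} : Set Sp) with hM
  have hu : Q.el ∈ M := Subgroup.subset_closure (by simp)
  have hu' : h * Q.el * h⁻¹ ∈ M := Subgroup.subset_closure (by simp)
  have hT : Q.el⁻¹ * (g * Q.el * g⁻¹) = tr e a := by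
    have h1 : Q.el⁻¹ * g * Q.el = tr e a * g := by
      conv_lhs => rw [show Q.el⁻¹ * g * Q.el = Q.el⁻¹ * g * (Q.el⁻¹)⁻¹ by rw [inv_inv], qE_conj]
      apply sp_ext
      intro x
      simp only [Submonoid.coe_mul, ← Matrix.mulVec_mulVec, g, qE_apply, tr_apply, Matrix.mulVec_smul,
        inv_el_pen Q hn, inv_el_top Q hn, e, map_add, map_sub, map_smul, LinearMap.add_apply,
        LinearMap.smul_apply, smul_eq_mul, AutPSp.B_self]
      rw [show B (Q.z (2 * n - 2)) (top_ Q) = 0 from hey]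
      have ht : t * 2 = -a := div_mul_cancel₀ _ h2
      linear_combination (norm := module) (-ht) • (B x (top_ Q) • top_ Q)
    rw [← mul_inv_eq_of_eq_mul h1]; group
  have hTe : tr e a ∈ M := hT ▸ M.mul_mem (M.inv_mem hu) (Subgroup.subset_closure (by simp))
  set w1 := (h : Mat) *ᵥ orb Q 1 with hw1
  have hTw : tr w1 a ∈ M := by
    have := M.mul_mem (M.mul_mem hu' hTe) (M.inv_mem hu')
    rwa [tr_conj, show e = (h : Mat) *ᵥ orb Q 0 by rw [orb_zero, hh], moved Q hh] at this
  set p := a⁻¹ • e with hp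
  have hB : B p w1 = a⁻¹ := by
    rw [hp, show e = (h : Mat) *ᵥ orb Q 0 by rw [orb_zero, hh], map_smul, LinearMap.smul_apply, hw1,
      B_sp, orb_B_next Q hn, smul_eq_mul, mul_one]
  obtain ⟨f, hf1, hf2⟩ := exists_plane_hom hB (inv_ne_zero ha)
  have hK : M.comap f = ⊤ := by
    refine gen_transv h2 h9 hg0 ?_ ?_
    · rw [Subgroup.mem_comap, hf2, inv_inv, one_mul]; exact hTw
    · rw [Subgroup.mem_comap, hf1, inv_inv, neg_neg, hp, tr_smul]
      rwa [show a⁻¹ * a⁻¹ * (a ^ 2 * a) = a by field_simp]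
  have hW : InW M e := by
    have := (inW_left_of_top (inv_ne_zero ha) f hf1 hK).smul a
    rwa [hp, smul_smul, mul_inv_cancel₀ ha, one_smul] at this
  refine eq_top_of_chain_big ?_ (fun k => (h : Mat) *ᵥ orb Q k) ?_
    (fun k => by show B _ _ ≠ 0; rw [B_sp, orb_B_next Q hn]; exact one_ne_zero) (moved_span Q h)
  · obtain ⟨p', hp'⟩ := CharP.exists F
    haveI := hp'
    by_contra hlt
    have h2' : Fintype.card F = 2 := by have := Fintype.one_lt_card (α := F); omega
    exact h2 (by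
      have := Nat.cast_card_eq_zero F
      rw [h2'] at this
      exact_mod_cast this)
  · intro k
    induction k with
    | zero => show InW M _; rw [orb_zero, hh]; exact hW
    | succ k ih => show InW M _; rw [← moved Q hh]; exact ih.map hu'

theorem gen_two (hn : 3 ≤ n) (hc : Fintype.card F = 2) : Gen Q := by
  classical
  have h01 : ∀ x : F, x = 0 ∨ x = 1 := by
    intro x
    by_contra h
    push Not at h
    have : ({0, 1, x} : Finset F).card ≤ 2 := hc ▸ Finset.card_le_univ _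
    rw [Finset.card_insert_of_notMem (by simp [h.1.symm]), Finset.card_insert_of_notMem (by simp [h.2.symm]),
      Finset.card_singleton] at this
    omega
  have two := two_eq_zero h01
  have h20 : (2 : F) = 0 := by linear_combination two
  set e := top_ Q
  set y := Q.z (2 * n - 2)
  set y' := Q.z (2 * n - 3)
  have gz : ∀ k l, 2 * n ≤ k + l → B (Q.z k) (Q.z l) = 0 := fun k l h => by
    rw [Q.val, gram_zero (by omega) h]; simp
  have hey : B e y = 0 := gz _ _ (by omega)
  have hey' : B e y' = 0 := gz _ _ (by omega)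
  have hyy' : B y y' = 0 := gz _ _ (by omega)
  have hye : B y e = 0 := gz _ _ (by omega)
  have hy'e : B y' e = 0 := gz _ _ (by omega)
  have hy'y : B y' y = 0 := gz _ _ (by omega)
  have hiy : ((Q.el⁻¹ : Sp) : Mat) *ᵥ y = y - e := inv_el_pen Q (by omega)
  have hiy' : ((Q.el⁻¹ : Sp) : Mat) *ᵥ y' = y' - y + e := by
    have h : (Q.el : Mat) *ᵥ (y' - y + e) = y' := by
      rw [Matrix.mulVec_add, Matrix.mulVec_sub, el_top Q (by omega)]
      simp only [y, y', Q.step]
      rw [show 2 * n - 2 + 1 = 2 * n - 1 by omega, show 2 * n - 3 + 1 = 2 * n - 2 by omega]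
      simp only [e, top_]
      abel
    conv_lhs => rw [← h]
    rw [sp_coe_inv_mulVec]
  set g := qE e y' hey' 0 * tr y 1
  have hT : Q.el⁻¹ * (g * Q.el * g⁻¹) = tr e 1 := by
    have h1 : Q.el⁻¹ * g * Q.el = tr e 1 * g := by
      rw [show Q.el⁻¹ * g * Q.el =
        (Q.el⁻¹ * qE e y' hey' 0 * (Q.el⁻¹)⁻¹) * (Q.el⁻¹ * tr y 1 * (Q.el⁻¹)⁻¹) by simp only [g]; group,
        qE_conj, tr_conj]
      apply sp_ext
      intro x
      simp only [Submonoid.coe_mul, ← Matrix.mulVec_mulVec, g, qE_apply, tr_apply, hiy, hiy', e,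
        inv_el_top Q (show 2 ≤ n by omega), map_add, map_sub, map_smul, LinearMap.add_apply,
        LinearMap.sub_apply, LinearMap.smul_apply, smul_eq_mul, AutPSp.B_self]
      rw [show B y (top_ Q) = 0 from hye, show B (top_ Q) y = 0 from hey,
        show B (top_ Q) y' = 0 from hey', hyy']
      rw [← sub_eq_zero]
      match_scalars <;> grobner
    rw [← mul_inv_eq_of_eq_mul h1]; group
  set v := Q.z 0
  set v2 := orb Q 2
  have hv0 : v ≠ 0 := fun h0 => by
    have := orb_B_next Q (show 2 ≤ n by omega) 0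
    rw [orb_zero, show Q.z 0 = v from rfl, h0, map_zero, LinearMap.zero_apply] at this
    exact zero_ne_one this
  obtain ⟨h₀, hh₀⟩ := exists_map_vector (x := v) (y := e) (m := n) hv0 Q.top_ne
  have hv2 : B v v2 = 0 := by
    simp only [v, v2, orb_two, map_add, AutPSp.B_self, Q.val, gram_01 (show 2 ≤ n by omega), gram_02 hn, gram_self]
    push_cast
    linear_combination two
  set x := (h₀ : Mat) *ᵥ v2
  have hex : B e x = 0 := by rw [← hh₀, B_sp, hv2]
  have hnot : ∀ z : V, z ≠ 0 → z ≠ e → z ∉ Submodule.span F {e} := by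
    intro z z0 ze hz
    obtain ⟨c, rfl⟩ := Submodule.mem_span_singleton.1 hz
    rcases h01 c with rfl | rfl
    · exact z0 (zero_smul _ _)
    · exact ze (one_smul _ _)
  have hxne : x ≠ 0 ∧ x ≠ e := by
    have hv21 : B v2 (orb Q 3) = 1 := orb_B_next Q (by omega) 2
    have hv3 : B v (orb Q 3) = 0 := by
      simp only [v, orb_three, map_add, AutPSp.B_self, Q.val, gram_01 (show 2 ≤ n by omega), gram_02 hn, gram_self,
        gram_03 hn]
      push_cast
      linear_combination 2 * two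
    constructor <;> intro h
    · have := B_sp h₀ v2 (orb Q 3)
      rw [show (h₀ : Mat) *ᵥ v2 = 0 from h, map_zero, LinearMap.zero_apply, hv21] at this
      exact zero_ne_one this
    · have : v2 = v := sp_mulVec_injective h₀ (h.trans hh₀.symm)
      rw [this, hv3] at hv21
      exact zero_ne_one hv21
  have hyne : y ≠ 0 ∧ y ≠ e := by
    have h1 : B (Q.z 1) y ≠ 0 ∧ B (Q.z 1) e = 0 := by
      refine ⟨?_, gz _ _ (by omega)⟩
      rw [Q.val]
      rcases gram_antidiag (show 2 ≤ n by omega) (show 1 + (2 * n - 2) + 1 = 2 * n by omega) with e | e <;>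
        simp [e]
    exact ⟨fun h => h1.1 (by rw [h, map_zero]), fun h => h1.1 (h ▸ h1.2)⟩
  obtain ⟨t₀, ht₀, htx, hte⟩ := exists_tau_step (spB_alt (m := n) (F := F)) spB_nondeg
    (Submodule.span F {e}) (hnot x hxne.1 hxne.2) (hnot y hyne.1 hyne.2) (fun z hz => by
      obtain ⟨c, rfl⟩ := Submodule.mem_span_singleton.1 hz
      rw [map_smul, map_smul, hye, (B_eq_zero_comm _ _).1 hex])
  set h₁ : Sp := (spEquiv n F).symm ⟨t₀, tauGroup_le spB_alt ht₀⟩
  have hh₁ : ∀ z, (h₁ : Mat) *ᵥ z = t₀ z := fun z => spEquiv_symm_mulVec _ _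
  set h := h₁ * h₀
  have hhv : (h : Mat) *ᵥ v = e := by
    rw [Submonoid.coe_mul, ← Matrix.mulVec_mulVec, hh₀, hh₁, hte e (Submodule.mem_span_singleton_self e)]
  have hhv2 : (h : Mat) *ᵥ v2 = y := by
    rw [Submonoid.coe_mul, ← Matrix.mulVec_mulVec, hh₁, htx]
  refine ⟨g, h, ?_⟩
  set M := Subgroup.closure ({Q.el, g * Q.el * g⁻¹, h * Q.el * h⁻¹} : Set Sp) with hM
  have hu : Q.el ∈ M := Subgroup.subset_closure (by simp)
  have hu' : h * Q.el * h⁻¹ ∈ M := Subgroup.subset_closure (by simp)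
  have hW : InW M e := fun c => by
    rcases h01 c with rfl | rfl
    · rw [tr_zero]; exact M.one_mem
    · exact hT ▸ M.mul_mem (M.inv_mem hu) (Subgroup.subset_closure (by simp))
  have hWk : ∀ k, InW M ((h : Mat) *ᵥ orb Q k) := by
    intro k
    induction k with
    | zero => rw [orb_zero, hhv]; exact hW
    | succ k ih => rw [← moved Q hhv]; exact ih.map hu'
  refine eq_top_of_chain_two h01 (fun k => (h : Mat) *ᵥ orb Q k) hWk
    (fun k => by show B _ _ = 1; rw [B_sp, orb_B_next Q (by omega)]) (moved_span Q h) ?_ ?_ ?_ ?_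
  · rw [B_sp, orb_zero]; exact hv2
  · rw [B_sp, B_swap, show (3 : ℕ) = 1 + 2 from rfl, orb_B, ← B_swap, orb_zero]; exact hv2
  · rw [B_sp, orb_zero]
    simp only [orb_three, map_add, AutPSp.B_self, Q.val, gram_01 (show 2 ≤ n by omega), gram_02 hn, gram_self,
      gram_03 hn]
    push_cast
    linear_combination 2 * two
  · have hy := hWk 2
    rw [show orb Q 2 = v2 from rfl, hhv2] at hy
    have := hy.map hu
    rw [show (Q.el : Mat) *ᵥ y = y + e by
      simp only [y, e, top_, Q.step]; rw [show 2 * n - 2 + 1 = 2 * n - 1 by omega]] at this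
    rw [orb_zero, show Q.z 0 = v from rfl, hhv, show orb Q 2 = v2 from rfl, hhv2, add_comm]
    exact this

theorem gen_all (hn : 2 ≤ n) (h22 : ¬ (n = 2 ∧ Fintype.card F = 2)) : Gen Q := by
  by_cases h9 : Fintype.card F = 9
  · exact gen_nine Q hn h9
  by_cases h2 : (2 : F) = 0
  · haveI : CharP F 2 := CharTwo.of_one_ne_zero_of_two_eq_zero one_ne_zero h2
    by_cases hc : Fintype.card F = 2
    · exact gen_two Q (by by_contra h; exact h22 ⟨by omega, hc⟩) hc
    · refine gen_even Q hn ?_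
      obtain ⟨k, -, hk⟩ := FiniteField.card F 2
      have := Fintype.one_lt_card (α := F)
      rcases (show (k : ℕ) = 1 ∨ 2 ≤ (k : ℕ) by have := k.pos; omega) with h | h
      · rw [h] at hk; omega
      · rw [hk]; exact le_trans (by norm_num) (Nat.pow_le_pow_right two_pos h)
  · exact gen_odd Q hn h2 h9

end Cfsg.Agent.SpThreeUnip
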