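import Cfsg.Agent.Lib.Forms.Models
import Cfsg.Agent.Lib.AutPSp.Basic

/-!
A regular unipotent element of `Sp_{2n}` over any field, with the Gram matrix of its Jordan chain.
-/

set_option autoImplicit false

namespace Cfsg.Agent.SpThreeUnip

open Matrix Cfsg.Agent.FormsLib Cfsg.Agent.AutPSp

/-- The upper part of the `m`-th invariant alternating pattern. -/
def gup (m k l : ℕ) : ℤ :=
  if k + l < 2 * m then (-1) ^ k * ((m - 1 - k).choose (2 * m - 1 - k - l) : ℤ) else 0

/-- The `m`-th invariant alternating pattern. -/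
def gpat (m k l : ℕ) : ℤ := if k < l then gup m k l else if l < k then -gup m l k else 0

theorem gup_diag (m k : ℕ) : gup m k k = 0 := by
  rw [gup]
  split_ifs with h
  · rw [Nat.choose_eq_zero_of_lt (by omega)]; simp
  · rfl

theorem gpat_eq_gup {m k l : ℕ} (h : k ≤ l) : gpat m k l = gup m k l := by
  rcases h.lt_or_eq with h | rfl
  · simp [gpat, h]
  · simp [gpat, gup_diag]

theorem gpat_anti (m k l : ℕ) : gpat m l k = -gpat m k l := by
  rcases lt_trichotomy k l with h | rfl | h
  · simp [gpat, h, h.not_gt]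
  · simp [gpat]
  · simp [gpat, h, h.not_gt]

theorem gup_inv (m k l : ℕ) (h : k < l) : gup m (k + 1) l + gup m k (l + 1) + gup m (k + 1) (l + 1) = 0 := by
  by_cases h1 : k + l + 1 < 2 * m
  · rw [gup, gup, gup, if_pos (show k + 1 + l < 2 * m by omega),
      if_pos (show k + (l + 1) < 2 * m by omega)]
    obtain ⟨a, ha⟩ : ∃ a, m - 1 - k = a + 1 := ⟨m - 2 - k, by omega⟩
    obtain ⟨b, hb⟩ : ∃ b, 2 * m - 1 - k - (l + 1) = b := ⟨_, rfl⟩
    rw [show m - 1 - (k + 1) = a by omega, show 2 * m - 1 - (k + 1) - l = b by omega, ha, hb, pow_succ]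
    split_ifs with h2
    · obtain ⟨b', rfl⟩ : ∃ b', b = b' + 1 := ⟨b - 1, by omega⟩
      rw [show 2 * m - 1 - (k + 1) - (l + 1) = b' by omega, Nat.choose_succ_succ']
      push_cast
      ring
    · obtain rfl : b = 0 := by omega
      simp
  · rw [gup, gup, gup, if_neg (show ¬ k + 1 + l < 2 * m by omega),
      if_neg (show ¬ k + (l + 1) < 2 * m by omega), if_neg (show ¬ k + 1 + (l + 1) < 2 * m by omega)]
    simp

theorem gpat_inv (m k l : ℕ) : gpat m (k + 1) l + gpat m k (l + 1) + gpat m (k + 1) (l + 1) = 0 := by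
  rcases lt_trichotomy k l with h | rfl | h
  · rw [gpat_eq_gup (by omega), gpat_eq_gup (by omega), gpat_eq_gup (by omega)]
    exact gup_inv m k l h
  · rw [gpat_anti m k (k + 1)]
    simp [gpat]
  · rw [gpat_anti m l (k + 1), gpat_anti m (l + 1) k, gpat_anti m (l + 1) (k + 1),
      gpat_eq_gup (show l ≤ k + 1 by omega), gpat_eq_gup (show l + 1 ≤ k by omega),
      gpat_eq_gup (show l + 1 ≤ k + 1 by omega)]
    linarith [gup_inv m l k h]

theorem gpat_zero {m k l : ℕ} (h : 2 * m ≤ k + l) : gpat m k l = 0 := by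
  simp [gpat, gup, show ¬ k + l < 2 * m by omega, show ¬ l + k < 2 * m by omega]

/-- The Gram pattern. -/
def gram (n k l : ℕ) : ℤ := gpat 1 k l + gpat n k l + (if 3 < n then gpat 3 k l else 0)

variable {n : ℕ}

theorem gram_anti (k l : ℕ) : gram n l k = -gram n k l := by
  simp only [gram, gpat_anti _ k l]
  split_ifs <;> ring

theorem gram_self (k : ℕ) : gram n k k = 0 := by simp [gram, gpat]

theorem gram_inv (k l : ℕ) : gram n (k + 1) l + gram n k (l + 1) + gram n (k + 1) (l + 1) = 0 := by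
  have h1 := gpat_inv 1 k l
  have h2 := gpat_inv n k l
  have h3 := gpat_inv 3 k l
  simp only [gram]
  split_ifs <;> linarith

theorem gram_zero (hn : 2 ≤ n) {k l : ℕ} (h : 2 * n ≤ k + l) : gram n k l = 0 := by
  rw [gram, gpat_zero (show 2 * 1 ≤ k + l by omega), gpat_zero h]
  split_ifs with h3
  · rw [gpat_zero (show 2 * 3 ≤ k + l by omega)]; rfl
  · rfl

theorem gram_antidiag (hn : 2 ≤ n) {k l : ℕ} (h : k + l + 1 = 2 * n) :
    gram n k l = 1 ∨ gram n k l = -1 := by
  have e : gram n k l = gpat n k l := by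
    rw [gram, gpat_zero (show 2 * 1 ≤ k + l by omega)]
    split_ifs with h3
    · rw [gpat_zero (show 2 * 3 ≤ k + l by omega)]; ring
    · ring
  have hg : ∀ a b, a + b + 1 = 2 * n → gup n a b = 1 ∨ gup n a b = -1 := fun a b hab => by
    rw [gup, if_pos (by omega), show 2 * n - 1 - a - b = 0 by omega, Nat.choose_zero_right,
      Nat.cast_one, mul_one]
    exact neg_one_pow_eq_or ℤ a
  rw [e, gpat, ]
  split_ifs with h1 h2
  · exact hg k l h
  · rcases hg l k (by omega) with e | e <;> simp [e]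
  · omega

theorem gram_01 (hn : 2 ≤ n) : gram n 0 1 = 1 := by
  have e : gup n 0 1 = 0 := by
    rw [gup, if_pos (by omega), Nat.choose_eq_zero_of_lt (by omega)]; simp
  rw [gram, gpat_eq_gup (by omega), gpat_eq_gup (by omega), gpat_eq_gup (by omega), e]
  simp [gup, Nat.choose]

theorem gram_02 (hn : 3 ≤ n) : gram n 0 2 = 0 := by
  have e : gup n 0 2 = 0 := by
    rw [gup, if_pos (by omega), Nat.choose_eq_zero_of_lt (by omega)]; simp
  rw [gram, gpat_eq_gup (by omega), gpat_eq_gup (by omega), gpat_eq_gup (by omega), e]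
  simp [gup, Nat.choose]

theorem gram_03 (hn : 3 ≤ n) : gram n 0 3 = 1 := by
  rcases hn.lt_or_eq with h | rfl
  · have e : gup n 0 3 = 0 := by
      rw [gup, if_pos (by omega)]
      rcases Nat.lt_or_ge 4 (n + 1) with h' | h'
      · rw [Nat.choose_eq_zero_of_lt (by omega)]; simp
      · omega
    rw [gram, gpat_eq_gup (by omega), gpat_eq_gup (by omega), gpat_eq_gup (by omega), e, if_pos h]
    simp [gup, Nat.choose]
  · decide

universe u

variable {F : Type u} [Field F]

/-- The coordinate vectors, zero beyond the dimension. -/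
def E (n : ℕ) (F : Type u) [Field F] (k : ℕ) : Fin (2 * n) → F := fun i => if i.val = k then 1 else 0

theorem E_single (i : Fin (2 * n)) : E n F i.val = Pi.single i 1 := by
  funext j; simp [E, Pi.single_apply, Fin.ext_iff]

theorem E_ge {k : ℕ} (h : 2 * n ≤ k) : E n F k = 0 := by
  funext j; simp [E, show j.val ≠ k from by omega]

/-- The form. -/
noncomputable def gB (n : ℕ) (F : Type u) [Field F] : LinearMap.BilinForm F (Fin (2 * n) → F) :=
  Matrix.toBilin' (Matrix.of fun k l : Fin (2 * n) => ((gram n k.val l.val : ℤ) : F))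

theorem gB_E (hn : 2 ≤ n) (k l : ℕ) : gB n F (E n F k) (E n F l) = ((gram n k l : ℤ) : F) := by
  by_cases hk : k < 2 * n
  · by_cases hl : l < 2 * n
    · rw [E_single ⟨k, hk⟩, E_single ⟨l, hl⟩, gB, Matrix.toBilin'_single, Matrix.of_apply]
    · rw [E_ge (le_of_not_gt hl), map_zero, gram_zero hn (by omega)]; simp
  · rw [E_ge (le_of_not_gt hk), map_zero, LinearMap.zero_apply, gram_zero hn (by omega)]; simp

theorem gB_alt : LinearMap.IsAlt (gB n F) := by
  intro v
  let U : Matrix (Fin (2 * n)) (Fin (2 * n)) F :=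
    Matrix.of fun k l => if k.val < l.val then ((gram n k.val l.val : ℤ) : F) else 0
  have hU : (Matrix.of fun k l : Fin (2 * n) => ((gram n k.val l.val : ℤ) : F)) = U - Uᵀ := by
    ext k l
    simp only [U, Matrix.sub_apply, Matrix.transpose_apply, Matrix.of_apply]
    rcases lt_trichotomy k.val l.val with h | h | h
    · simp [h, h.not_gt]
    · simp [h, gram_self]
    · simp [h, h.not_gt, gram_anti l.val k.val]
  rw [gB, hU, Matrix.toBilin'_apply', Matrix.sub_mulVec, dotProduct_sub, Matrix.mulVec_transpose,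
    dotProduct_comm v (v ᵥ* U), ← Matrix.dotProduct_mulVec, sub_self]

theorem gB_nondeg (hn : 2 ≤ n) (u : Fin (2 * n) → F) (h : ∀ v, gB n F u v = 0) : u = 0 := by
  classical
  by_contra hu
  obtain ⟨j, hj⟩ : ∃ j, u j ≠ 0 := Function.ne_iff.1 hu
  obtain ⟨k, hk, hmin⟩ := (Finset.univ.filter fun i => u i ≠ 0).exists_min_image id ⟨j, by simpa⟩
  simp only [Finset.mem_filter, Finset.mem_univ, true_and, id_eq] at hk hmin
  let l : Fin (2 * n) := ⟨2 * n - 1 - k.val, by omega⟩
  have hh := h (Pi.single l 1)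
  rw [gB, Matrix.toBilin'_apply'] at hh
  simp only [dotProduct, Matrix.mulVec_single_one, Matrix.col_apply, Matrix.of_apply] at hh
  rw [Finset.sum_eq_single k ?_ (by simp)] at hh
  · rcases gram_antidiag hn (show k.val + l.val + 1 = 2 * n by simp only [l]; omega) with e | e <;>
      simp [e, hk] at hh
  · intro i _ hi
    by_cases h0 : u i = 0
    · simp [h0]
    · have h1 := hmin i h0
      rw [gram_zero hn]
      · simp
      · have : k.val < i.val := lt_of_le_of_ne (Fin.le_def.1 h1) fun e => hi (Fin.ext e.symm)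
        simp only [l]; omega

/-- The shift. -/
def shiftU (n : ℕ) (F : Type u) [Field F] : (Fin (2 * n) → F) →ₗ[F] (Fin (2 * n) → F) where
  toFun x k := x k + if h : k.val = 0 then 0 else x ⟨k.val - 1, by omega⟩
  map_add' x y := by funext k; by_cases h : k.val = 0 <;> simp [h, add_add_add_comm]
  map_smul' c x := by funext k; by_cases h : k.val = 0 <;> simp [h, mul_add]

theorem shiftU_E (k : ℕ) : shiftU n F (E n F k) = E n F k + E n F (k + 1) := by
  funext i
  simp only [shiftU, LinearMap.coe_mk, AddHom.coe_mk, E, Pi.add_apply]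
  congr 1
  by_cases h : i.val = 0
  · simp [h]
  · rw [dif_neg h]
    exact if_congr (by constructor <;> intro e <;> omega) rfl rfl

theorem shiftU_isom (hn : 2 ≤ n) (x y : Fin (2 * n) → F) :
    gB n F (shiftU n F x) (shiftU n F y) = gB n F x y := by
  have h : (gB n F).compl₁₂ (shiftU n F) (shiftU n F) = gB n F := by
    refine LinearMap.ext_basis (Pi.basisFun F _) (Pi.basisFun F _) fun i j => ?_
    rw [LinearMap.compl₁₂_apply, Pi.basisFun_apply, Pi.basisFun_apply, ← E_single, ← E_single,
      shiftU_E, shiftU_E]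
    simp only [map_add, LinearMap.add_apply, gB_E hn]
    have := congrArg (fun z : ℤ => (z : F)) (gram_inv (n := n) i.val j.val)
    push_cast at this
    linear_combination this
  exact LinearMap.congr_fun₂ h x y

/-- A regular unipotent element with the Gram values of its chain. -/
structure Model (n : ℕ) (F : Type u) [Field F] where
  /-- the element -/
  el : Matrix.symplecticGroup (Fin n) F
  /-- the chain -/
  z : ℕ → (Fin n ⊕ Fin n → F)
  step : ∀ k, (el : Matrix (Fin n ⊕ Fin n) (Fin n ⊕ Fin n) F) *ᵥ z k = z k + z (k + 1)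
  high : ∀ k, 2 * n ≤ k → z k = 0
  span : Submodule.span F (Set.range z) = ⊤
  top_ne : z (2 * n - 1) ≠ 0
  val : ∀ k l, spB n F (z k) (z l) = ((gram n k l : ℤ) : F)

theorem exists_model (hn : 2 ≤ n) : Nonempty (Model n F) := by
  obtain ⟨e, he⟩ := FormModel.exists_symp_coords (gB_alt (n := n) (F := F)) (gB_nondeg hn) (m := n)
    (by rw [Module.finrank_pi, Fintype.card_fin])
  let f : (Fin n ⊕ Fin n → F) →ₗ[F] (Fin n ⊕ Fin n → F) :=
    e.symm.toLinearMap ∘ₗ shiftU n F ∘ₗ e.toLinearMap
  have hf : ∀ x y, spB n F (f x) (f y) = spB n F x y := fun x y => by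
    rw [← he, ← he]
    simp [f, shiftU_isom hn]
  let u : Matrix.symplecticGroup (Fin n) F :=
    ⟨LinearMap.toMatrix' f, (mem_symplectic_iff _).2 fun x y => by
      rw [LinearMap.toMatrix'_mulVec, LinearMap.toMatrix'_mulVec, hf]⟩
  refine ⟨⟨u, fun k => e.symm (E n F k), fun k => ?_, fun k hk => ?_, ?_, ?_, fun k l => ?_⟩⟩
  · show LinearMap.toMatrix' f *ᵥ _ = _
    rw [LinearMap.toMatrix'_mulVec]
    simp [f, shiftU_E]
  · rw [E_ge hk, map_zero]
  · rw [eq_top_iff]
    intro x _
    rw [← e.symm_apply_apply x, pi_eq_sum_univ (e x), map_sum]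
    refine Submodule.sum_mem _ fun i _ => ?_
    rw [map_smul]
    refine Submodule.smul_mem _ _ (Submodule.subset_span ⟨i.val, ?_⟩)
    show e.symm (E n F i.val) = _
    congr 1
    funext j
    simp [E, Fin.ext_iff, eq_comm]
  · intro h
    have := congrFun ((LinearEquiv.map_eq_zero_iff _).1 h) ⟨2 * n - 1, by omega⟩
    simp [E] at this
  · rw [← he, e.apply_symm_apply, e.apply_symm_apply, gB_E hn]

end Cfsg.Agent.SpThreeUnip
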