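import Cfsg.Agent.Lib.ClassTwoGen.SpSpan
import Cfsg.Agent.Lib.SL2.DicksonGen

/-!
The copy of `SL₂` on a hyperbolic plane of `Sp_{2n}`, and generation by two special elements.
-/

set_option autoImplicit false
set_option linter.unusedSectionVars false

namespace Cfsg.Agent.SpThreeUnip

open Matrix Cfsg.Agent.FormsLib Cfsg.Agent.AutPSp Cfsg.Agent.ClassTwoGen.SpGen

universe u

variable {F : Type u} [Field F]

local notation "G2" => Matrix.SpecialLinearGroup (Fin 2) F

/-- Lower unitriangular. -/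
def lw (t : F) : G2 := ⟨!![1, 0; t, 1], by simp [Matrix.det_fin_two]⟩

theorem lw_mul (a b : F) : lw a * lw b = lw (a + b) := by
  apply Subtype.ext
  rw [Matrix.SpecialLinearGroup.coe_mul]
  apply SL2.mext <;> simp [lw, Matrix.mul_apply, Fin.sum_univ_two]

theorem lw_zero : lw (0 : F) = 1 := by apply SL2.ext4 <;> simp [lw]

/-- `[[1+s², s], [s, 1]]`. -/
def bigX (s : F) : G2 := SL2.uu s * lw s

theorem coe_bigX (s : F) : ((bigX s : G2) : Matrix (Fin 2) (Fin 2) F) = !![1 + s * s, s; s, 1] := by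
  rw [bigX, Matrix.SpecialLinearGroup.coe_mul]
  apply SL2.mext <;> simp [SL2.uu, lw, Matrix.mul_apply, Fin.sum_univ_two]

variable {m : ℕ}

/-- The action of `SL₂` on the plane spanned by `p` and `r`. -/
theorem exists_plane_hom {p r : Fin m ⊕ Fin m → F} {a : F} (ha : spB m F p r = a) (h : a ≠ 0) :
    ∃ f : G2 →* Matrix.symplecticGroup (Fin m) F,
      (∀ t, f (SL2.uu t) = tr p (-t * a⁻¹)) ∧ ∀ t, f (lw t) = tr r (t * a⁻¹) := by
  have hrp : spB m F r p = -a := by rw [B_swap, ha]
  let c0 : G2 → (Fin m ⊕ Fin m → F) → F := fun M v =>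
    ((M : Matrix (Fin 2) (Fin 2) F) 0 0 - 1) * (a⁻¹ * spB m F v r) +
      (M : Matrix (Fin 2) (Fin 2) F) 0 1 * (-a⁻¹ * spB m F v p)
  let c1 : G2 → (Fin m ⊕ Fin m → F) → F := fun M v =>
    (M : Matrix (Fin 2) (Fin 2) F) 1 0 * (a⁻¹ * spB m F v r) +
      ((M : Matrix (Fin 2) (Fin 2) F) 1 1 - 1) * (-a⁻¹ * spB m F v p)
  let L : G2 → (Fin m ⊕ Fin m → F) →ₗ[F] (Fin m ⊕ Fin m → F) := fun M =>
    { toFun := fun v => v + c0 M v • p + c1 M v • r
      map_add' := fun x y => by simp only [c0, c1, map_add, LinearMap.add_apply]; module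
      map_smul' := fun k x => by
        simp only [c0, c1, map_smul, LinearMap.smul_apply, smul_eq_mul, RingHom.id_apply]; module }
  have hiso : ∀ M x y, spB m F (L M x) (L M y) = spB m F x y := fun M x y => by
    have hdet := SL2.det_eq M
    simp only [L, c0, c1, LinearMap.coe_mk, AddHom.coe_mk, map_add, map_smul, LinearMap.add_apply,
      LinearMap.smul_apply, smul_eq_mul, B_self, ha, hrp]
    rw [B_swap p y, B_swap r y]
    field_simp
    linear_combination a * (spB m F x p * spB m F y r - spB m F x r * spB m F y p) * hdet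
  let el : G2 → Matrix.symplecticGroup (Fin m) F := fun M =>
    ⟨LinearMap.toMatrix' (L M), (mem_symplectic_iff _).2 fun x y => by
      rw [LinearMap.toMatrix'_mulVec, LinearMap.toMatrix'_mulVec, hiso]⟩
  have hel : ∀ M v, (el M : Matrix (Fin m ⊕ Fin m) (Fin m ⊕ Fin m) F) *ᵥ v =
      v + c0 M v • p + c1 M v • r := fun M v => by
    show LinearMap.toMatrix' (L M) *ᵥ v = _
    rw [LinearMap.toMatrix'_mulVec]
    rfl
  have hmul : ∀ M M', el (M * M') = el M * el M' := fun M M' => sp_ext fun v => by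
    have e1 : spB m F (v + c0 M' v • p + c1 M' v • r) r = spB m F v r + c0 M' v * a := by
      simp [B_self, ha]
    have e2 : spB m F (v + c0 M' v • p + c1 M' v • r) p = spB m F v p - c1 M' v * a := by
      simp [B_self, hrp]; ring
    have hd0 : c0 (M * M') v = c0 M' v + c0 M (v + c0 M' v • p + c1 M' v • r) := by
      simp only [c0, c1] at e1 e2 ⊢
      rw [e1, e2]
      simp only [Matrix.SpecialLinearGroup.coe_mul, Matrix.mul_apply, Fin.sum_univ_two]
      field_simp
      ring
    have hd1 : c1 (M * M') v = c1 M' v + c1 M (v + c0 M' v • p + c1 M' v • r) := by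
      simp only [c0, c1] at e1 e2 ⊢
      rw [e1, e2]
      simp only [Matrix.SpecialLinearGroup.coe_mul, Matrix.mul_apply, Fin.sum_univ_two]
      field_simp
      ring
    rw [Submonoid.coe_mul, ← Matrix.mulVec_mulVec, hel, hel, hel, hd0, hd1]
    module
  refine ⟨MonoidHom.mk' el hmul, fun t => sp_ext fun v => ?_, fun t => sp_ext fun v => ?_⟩
  · show (el _ : Matrix (Fin m ⊕ Fin m) (Fin m ⊕ Fin m) F) *ᵥ v = _
    rw [hel, tr_apply]
    simp [c0, c1, SL2.uu, mul_assoc]
  · show (el _ : Matrix (Fin m ⊕ Fin m) (Fin m ⊕ Fin m) F) *ᵥ v = _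
    rw [hel, tr_apply]
    simp [c0, c1, lw, mul_assoc]

theorem inW_left_of_top {p : Fin m ⊕ Fin m → F} {a : F} (h : a ≠ 0)
    {M : Subgroup (Matrix.symplecticGroup (Fin m) F)} (f : G2 →* Matrix.symplecticGroup (Fin m) F)
    (hu : ∀ t, f (SL2.uu t) = tr p (-t * a⁻¹)) (hK : M.comap f = ⊤) : InW M p := fun c => by
  have := (hK ▸ Subgroup.mem_top (SL2.uu (-c * a)) : SL2.uu (-c * a) ∈ M.comap f)
  rw [Subgroup.mem_comap, hu] at this
  rwa [show -(-c * a) * a⁻¹ = c by field_simp] at this

section gen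

variable [Fintype F]

/-- A small power of a generator generates the field. -/
theorem closure_gen_pow {g : Fˣ} (hg : ∀ x : Fˣ, x ∈ Subgroup.zpowers g) :
    Subfield.closure ({((g : F)) ^ 2} : Set F) = ⊤ := by
  classical
  set K := Subfield.closure ({((g : F)) ^ 2} : Set F) with hKdef
  by_contra hK
  obtain ⟨x, hx⟩ : ∃ x : F, x ∉ K := by
    by_contra h
    push Not at h
    exact hK (eq_top_iff.2 fun x _ => h x)
  have hgK : ((g : F)) ^ 2 ∈ K := Subfield.subset_closure rfl
  have hk1 : 1 < Fintype.card K := Fintype.one_lt_card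
  have hcard := Module.card_eq_pow_finrank (K := K) (V := F)
  have hlt : Fintype.card K < Fintype.card F :=
    Fintype.card_lt_of_injective_of_notMem Subtype.val Subtype.val_injective (b := x)
      (by rintro ⟨y, rfl⟩; exact hx y.2)
  have h2 : 2 ≤ Module.finrank K F := by
    by_contra h
    have : Fintype.card F ≤ Fintype.card K := by
      rw [hcard]
      calc Fintype.card K ^ Module.finrank K F ≤ Fintype.card K ^ 1 :=
            Nat.pow_le_pow_right (by omega) (by omega)
        _ = _ := pow_one _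
    omega
  have hsq : Fintype.card K * Fintype.card K ≤ Fintype.card F := by
    rw [hcard, ← pow_two]
    exact Nat.pow_le_pow_right (by omega) h2
  have hone : g ^ (2 * (Fintype.card K - 1)) = 1 := by
    have h : (⟨_, hgK⟩ : K) ^ (Fintype.card K - 1) = 1 :=
      FiniteField.pow_card_sub_one_eq_one _ (fun e => by simpa using congrArg Subtype.val e)
    have h' := congrArg Subtype.val h
    apply Units.ext
    rw [Units.val_pow_eq_pow_val, pow_mul]
    simpa using h'
  have hdvd := orderOf_dvd_of_pow_eq_one hone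
  rw [orderOf_eq_card_of_forall_mem_zpowers hg, Nat.card_units, Nat.card_eq_fintype_card] at hdvd
  have := Nat.le_of_dvd (by omega) hdvd
  generalize Fintype.card K = k at *
  generalize Fintype.card F = f at *
  rcases (show k = 2 ∨ 3 ≤ k by omega) with rfl | hk
  · omega
  · have := Nat.mul_le_mul hk (le_refl k)
    omega

/-- Two unitriangular elements in odd characteristic. -/
theorem gen_transv (h2 : (2 : F) ≠ 0) (h9 : Fintype.card F ≠ 9) {g : Fˣ}
    (hg : ∀ x : Fˣ, x ∈ Subgroup.zpowers g) {K : Subgroup G2} (h1 : lw (1 : F) ∈ K)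
    (hu : SL2.uu (-((g : F) ^ 2)) ∈ K) : K = ⊤ := by
  have hgen : Subfield.closure ({-((g : F) ^ 2)} : Set F) = ⊤ := by
    refine top_le_iff.1 (closure_gen_pow hg ▸ Subfield.closure_le.2 ?_)
    rintro _ rfl
    have := Subfield.subset_closure (s := ({-((g : F) ^ 2)} : Set F)) rfl
    simpa using Subfield.neg_mem _ this
  rcases SL2.dGen_cases (-((g : F) ^ 2)) h2 (by simp) hgen with ⟨h, -⟩ | ⟨h, -⟩
  · refine eq_top_iff.2 (h ▸ (Subgroup.closure_le _).2 ?_)
    rintro x (hx | hx)
    · rw [show x = lw 1 from Subtype.ext hx]; exact h1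
    · rw [show x = SL2.uu (-((g : F) ^ 2)) from Subtype.ext hx]; exact hu
  · exact absurd h h9

/-- Two elements `[[1+s², s], [s, 1]]` in characteristic two. -/
theorem gen_bigX [CharP F 2] (h4 : 4 ≤ Fintype.card F) {g : Fˣ}
    (hg : ∀ x : Fˣ, x ∈ Subgroup.zpowers g) {K : Subgroup G2} (hs : bigX (g : F) ∈ K)
    (ht : bigX (1 : F) ∈ K) : K = ⊤ := by
  classical
  haveI : Finite (Matrix.ProjectiveSpecialLinearGroup (Fin 2) F) :=
    Finite.of_surjective _ SL2.π_surjective
  haveI : Fact (Nat.Prime 2) := ⟨Nat.prime_two⟩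
  have h20 : (2 : F) = 0 := by exact_mod_cast CharP.cast_eq_zero F 2
  have hinj : Function.Injective (SL2.π : G2 →* _) := fun x y h => by
    rcases SL2.π_eq_iff.1 h with e | e
    · exact e.symm
    · rw [e]
      apply SL2.ext4 <;> simp [CharTwo.neg_eq]
  have hg1 : (g : F) ≠ 1 := by
    intro e
    have hd : Nat.card Fˣ = 1 := by
      rw [← orderOf_eq_card_of_forall_mem_zpowers hg, orderOf_eq_one_iff]
      exact Units.ext e
    rw [Nat.card_units, Nat.card_eq_fintype_card] at hd
    omega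
  have hsq : bigX (g : F) ^ 2 * bigX (1 : F) ^ 2 ≠ bigX (1 : F) ^ 2 * bigX (g : F) ^ 2 := by
    intro e
    have := congrArg (fun x : G2 => (x : Matrix (Fin 2) (Fin 2) F) 0 1) e
    simp only [pow_two, Matrix.SpecialLinearGroup.coe_mul, coe_bigX] at this
    simp [Matrix.mul_apply, Fin.sum_univ_two] at this
    have h0 : (g : F) ^ 3 * ((g : F) - 1) = 0 := by
      linear_combination this + (3 * (g : F) - 3 * (g : F) ^ 2 + (g : F) ^ 3 - (g : F) ^ 4) * h20
    exact mul_ne_zero (pow_ne_zero 3 g.ne_zero) (sub_ne_zero.2 hg1) h0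
  have hcomm : ∀ {r : G2}, SL2.π (bigX (g : F)) ∈ SL2.NT r → SL2.π (bigX (1 : F)) ∈ SL2.NT r →
      SL2.tr r ^ 2 ≠ 4 → False := fun h1 h2 hr => by
    have := SL2.sq_comm_of_mem_NT hr h1 h2
    rw [← map_pow, ← map_pow, ← map_mul, ← map_mul] at this
    exact hsq (hinj this)
  set H : Subgroup (Matrix.ProjectiveSpecialLinearGroup (Fin 2) F) := K.map SL2.π with hHdef
  have hx : SL2.π (bigX (g : F)) ∈ H := ⟨_, hs, rfl⟩
  have hy : SL2.π (bigX (1 : F)) ∈ H := ⟨_, ht, rfl⟩
  suffices H = ⊤ by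
    refine (Subgroup.eq_top_iff' _).2 fun x => ?_
    obtain ⟨y, hy, e⟩ := (this ▸ Subgroup.mem_top (SL2.π x) : SL2.π x ∈ H)
    exact hinj e ▸ hy
  rcases SL2.dickson 2 H with ⟨r, hr, hle, -⟩ | ⟨r, hr, hle, -⟩ | ⟨c, hc⟩ | ⟨h, -⟩ | ⟨h, -⟩ | ⟨h, -⟩ |
    ⟨L, γ, -, hcase⟩
  · exfalso
    have := (SL2.isCyclic_torus hr).commGroup.mul_comm ⟨_, hle (pow_mem hx 2)⟩ ⟨_, hle (pow_mem hy 2)⟩
    have h' := congrArg Subtype.val this
    simp only [Subgroup.coe_mul, ← map_pow, ← map_mul] at h'
    exact hsq (hinj h')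
  · exact (hcomm (hle hx) (hle hy) hr).elim
  · exfalso
    obtain ⟨c', rfl⟩ := SL2.π_surjective c
    have hb : ∀ s : F, SL2.π (bigX s) ∈ H → ((c' * bigX s * c'⁻¹ : G2) : Matrix (Fin 2) (Fin 2) F) 1 0 = 0 :=
      fun s h => by
        have := hc _ h
        rw [← map_inv, ← map_mul, ← map_mul] at this
        exact SL2.pi_mem_B0.1 this
    have e1 := hb _ hx
    have e2 := hb _ hy
    simp only [Matrix.SpecialLinearGroup.coe_mul, Matrix.SpecialLinearGroup.coe_inv, coe_bigX,
      Matrix.adjugate_fin_two] at e1 e2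
    simp [Matrix.mul_apply, Fin.sum_univ_two] at e1 e2
    generalize hp : (c' : Matrix (Fin 2) (Fin 2) F) 1 0 = p at e1 e2
    generalize hq : (c' : Matrix (Fin 2) (Fin 2) F) 1 1 = q at e1 e2
    have hd := SL2.det_eq c'
    rw [hp, hq] at hd
    have hpq : (g : F) * ((g : F) - 1) * (p * q) = 0 := by
      linear_combination e1 - (g : F) * e2
    rcases mul_eq_zero.1 hpq with h | h
    · exact mul_ne_zero g.ne_zero (sub_ne_zero.2 hg1) h
    rcases mul_eq_zero.1 h with h | h
    · subst h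
      have hq0 : q ≠ 0 := fun e => by rw [e] at hd; simp at hd
      exact hq0 (pow_eq_zero_iff (two_ne_zero) |>.1 (by linear_combination e2))
    · subst h
      have hp0 : p ≠ 0 := fun e => by rw [e] at hd; simp at hd
      exact hp0 (pow_eq_zero_iff (two_ne_zero) |>.1 (by linear_combination -e2))
  · exact absurd rfl h
  · exact absurd rfl h
  · exact absurd rfl h
  · by_contra hH
    have hcase' : H.map (SL2.conjEmb γ) ≤ SL2.pg L.subtype := by
      rcases hcase with ⟨-, h⟩ | ⟨-, h⟩ <;> rw [← SL2.map_conjEmb] at h <;> rw [h]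
      · exact SL2.kg_le_pg L.subtype
      · exact le_rfl
    have m1 := SL2.tr_sq_mem (hcase' ⟨_, hx, rfl⟩)
    obtain ⟨c, hc⟩ := m1
    have hc' : (c : F) = ((g : F) ^ 2) ^ 2 := by
      rw [show (c : F) = _ from hc, SL2.tr, coe_bigX]
      simp
      linear_combination (2 + 2 * (g : F) * (g : F)) * h20
    -- the square is bijective on a finite subfield of characteristic two
    haveI : Finite L := inferInstance
    obtain ⟨d, hd⟩ : ∃ d : L, d * d = c :=
      ((Finite.injective_iff_surjective (f := fun d : L => d * d)).1 fun a b hab =>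
        Subtype.ext (CharTwo.sq_injective (by
          simpa [pow_two] using congrArg Subtype.val hab))) c
    have hd' : (d : F) = (g : F) ^ 2 := CharTwo.sq_injective (by
      show (d : F) ^ 2 = ((g : F) ^ 2) ^ 2
      rw [← hc', ← hd]; push_cast; ring)
    have hKt : L = ⊤ := top_le_iff.1 (closure_gen_pow hg ▸ Subfield.closure_le.2
      (Set.singleton_subset_iff.2 (hd' ▸ d.2)))
    have hsq' := SL2.lt_card_of_ne_top hH (hcase.imp And.left And.left)
    subst hKt
    rw [Nat.card_congr Subfield.topEquiv.toEquiv, Nat.card_eq_fintype_card] at hsq'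
    have := Nat.mul_le_mul h4 (le_refl (Fintype.card F))
    omega

end gen

end Cfsg.Agent.SpThreeUnip
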